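import Cfsg.Agent.Lib.FusionBasics.PPower.Tau
import Cfsg.Agent.Lib.FusionBasics.KSaturated
import Cfsg.Agent.Lib.FusionSub.Residual
import Cfsg.Agent.Lib.FusionBasics.Focal

/-!
Saturated subsystems of `p`-power index exist over every subgroup containing the hyperfocal
subgroup.
-/

set_option autoImplicit false
set_option linter.style.haveILetI false

namespace CfsgLib.FusionBasics.PPower

open Cfsg Cfsg.FusionSystem CfsgLib.Alperin

universe u

variable {Ω : Type u} [Group Ω] {S T : Subgroup Ω} {H A : Type*} [Group H] [CommGroup A]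
  {L : S →* H} {τ : H →* A} {F : FusionSystem S}

/-- `g` realizes the map `φ`. -/
def Realizes (L : S →* H) (g : H) {P : Subgroup Ω} (φ : P →* Ω) : Prop :=
  ∀ (u : P) (h₁ : (u : Ω) ∈ S) (h₂ : φ u ∈ S), L ⟨φ u, h₂⟩ = g * L ⟨u, h₁⟩ * g⁻¹

theorem TauData.exists_realizes (hD : TauData F T L τ) {P : Subgroup Ω} {φ : P →* Ω}
    (hφ : φ ∈ F.Hom P) : ∃ g, Realizes L g φ := by
  obtain ⟨g, hg⟩ := hD.realize hφ
  exact ⟨g, fun u _ _ => hg u⟩

theorem realizes_conj {P : Subgroup Ω} {s : S} : Realizes L (L s) (conjHom P (s : Ω)) := by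
  intro u h₁ h₂
  rw [← map_inv, ← map_mul, ← map_mul]
  exact congrArg L (Subtype.ext (conjHom_apply P _ u))

theorem Realizes.comp {P Q : Subgroup Ω} {φ : P →* Ω} {ψ : Q →* Ω} {g h : H}
    (hφ : Realizes L g φ) (hψ : Realizes L h ψ) (hv : ∀ x, φ x ∈ Q) (hS : ∀ x, φ x ∈ S) :
    Realizes L (h * g) (ψ.comp (φ.codRestrict Q hv)) := by
  intro u h₁ h₂
  rw [show L ⟨_, h₂⟩ = h * L ⟨φ u, hS u⟩ * h⁻¹ from hψ ⟨φ u, hv u⟩ (hS u) h₂, hφ u h₁ (hS u)]
  group

/-- The subsystem over `T` of maps realized by elements killed by `τ`. -/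
def tauSystem (hD : TauData F T L τ) (hTS : T ≤ S) : FusionSystem T where
  Hom P := {φ | φ ∈ F.Hom P ∧ P ≤ T ∧ (∀ x, φ x ∈ T) ∧ ∃ h : H, τ h = 1 ∧ Realizes L h φ}
  le_of_mem hm := ⟨hm.2.1, hm.2.2.1⟩
  injective_of_mem hm := F.injective_of_mem hm.1
  conj_mem {P g} hP hg := ⟨F.conj_mem (hP.trans hTS) (hTS hg), hP,
    fun x => T.mul_mem (T.mul_mem hg (hP x.2)) (T.inv_mem hg),
    L ⟨g, hTS hg⟩, (hD.ker _).mpr hg, realizes_conj (s := ⟨g, hTS hg⟩)⟩
  comp_mem {P Q φ ψ} := by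
    rintro ⟨hφ, hP, hφT, g, hg, hgr⟩ ⟨hψ, -, hψT, h, hh, hhr⟩ hv
    exact ⟨F.comp_mem hφ hψ hv, hP, fun x => hψT _, h * g, by rw [map_mul, hg, hh, mul_one],
      hgr.comp hhr hv fun x => hTS (hφT x)⟩
  inv_mem {P φ} := by
    rintro ⟨hφ, hP, hφT, g, hg, hgr⟩
    obtain ⟨θ, hθ, hθx⟩ := F.inv_mem hφ
    have hrT : φ.range ≤ T := by
      rintro _ ⟨x, rfl⟩
      exact hφT x
    refine ⟨θ, ⟨hθ, hrT, ?_, g⁻¹, by rw [map_inv, hg, inv_one], ?_⟩, hθx⟩
    · rintro ⟨_, x, rfl⟩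
      rw [hθx]
      exact hP x.2
    · rintro ⟨_, x, rfl⟩ h₁ h₂
      have h := hgr x (hTS (hP x.2)) h₁
      rw [show L ⟨_, h₂⟩ = L ⟨x, hTS (hP x.2)⟩ from congrArg L (Subtype.ext (hθx x))]
      show _ = g⁻¹ * L ⟨φ x, h₁⟩ * g⁻¹⁻¹
      rw [h]
      group

variable {p : ℕ} [Fact p.Prime] [Finite S]

theorem apply_mem_of_focal_le (hfoc : F.focalSubgroup ≤ T) {P : Subgroup Ω} {φ : P →* Ω}
    (hφ : φ ∈ F.Hom P) (x : P) (hx : (x : Ω) ∈ T) : φ x ∈ T := by
  have h := T.mul_mem hx (hfoc (focal_mem hφ x))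
  rwa [mul_inv_cancel_left] at h

/-- An element realizing a map can be corrected by centralizing elements. -/
theorem exists_realizes_ker (hA : Nat.card A = p) {P : Subgroup Ω} {φ : P →* Ω} {g : H}
    (hg : Realizes L g φ) {c : H} (hc : ∀ u : S, (u : Ω) ∈ P → c * L u = L u * c) (hcτ : τ c ≠ 1) :
    ∃ h, τ h = 1 ∧ Realizes L h φ := by
  have htop := zpowers_eq_top_of_prime_card hA hcτ
  obtain ⟨k, hk⟩ := Subgroup.mem_zpowers_iff.mp
    (htop.ge (Subgroup.mem_top (τ g)⁻¹) : (τ g)⁻¹ ∈ Subgroup.zpowers (τ c))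
  refine ⟨g * c ^ k, by rw [map_mul, map_zpow, hk, mul_inv_cancel], fun u h₁ h₂ => ?_⟩
  have h : c ^ k * L ⟨u, h₁⟩ = L ⟨u, h₁⟩ * c ^ k :=
    (Commute.zpow_left (hc ⟨u, h₁⟩ u.2) k).eq
  rw [hg u h₁ h₂]
  calc g * L ⟨u, h₁⟩ * g⁻¹ = g * (L ⟨u, h₁⟩ * c ^ k) * (c ^ k)⁻¹ * g⁻¹ := by group
    _ = g * c ^ k * L ⟨u, h₁⟩ * (g * c ^ k)⁻¹ := by rw [← h]; group

/-- Two elements realizing the same map differ by a centralizing element. -/
theorem commute_of_realizes {P : Subgroup Ω} {φ : P →* Ω} (hφ : ∀ x, φ x ∈ S) {g h : H}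
    (hg : Realizes L g φ) (hh : Realizes L h φ) (u : S) (hu : (u : Ω) ∈ P) :
    (h⁻¹ * g) * L u = L u * (h⁻¹ * g) := by
  have e := (hg ⟨u, hu⟩ u.2 (hφ _)).symm.trans (hh ⟨u, hu⟩ u.2 (hφ _))
  have e2 : g * L u * g⁻¹ = h * L u * h⁻¹ := e
  calc h⁻¹ * g * L u = h⁻¹ * (g * L u * g⁻¹) * g := by group
    _ = L u * (h⁻¹ * g) := by rw [e2]; group

theorem normalizerIn_conj_card {Q : Subgroup Ω} {s : Ω} (hs : s ∈ S) :
    Nat.card (normalizerIn S Q) ≤ Nat.card (normalizerIn S (Q.map (MulAut.conj s).toMonoidHom)) := by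
  rw [← Subgroup.card_map_of_injective (K := normalizerIn S Q) (f := (MulAut.conj s).toMonoidHom)
    (MulAut.conj s).injective]
  haveI := finite_of_le (normalizerIn_le S (Q.map (MulAut.conj s).toMonoidHom))
  refine Subgroup.card_le_of_le ?_
  rintro _ ⟨n, hn, rfl⟩
  refine ⟨S.mul_mem (S.mul_mem hs hn.1) (S.inv_mem hs), ?_⟩
  rw [← Subgroup.map_equiv_normalizer_eq]
  exact ⟨n, hn.2, rfl⟩

theorem autGroup_realizes (hD : TauData F T L τ) (hTS : T ≤ S) {P : Subgroup Ω} (hP : P ≤ T)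
    {α : MulAut P} :
    α ∈ (tauSystem hD hTS).autGroup P ↔ α ∈ F.autGroup P ∧
      ∃ h, τ h = 1 ∧ Realizes L h (P.subtype.comp α.toMonoidHom) := by
  rw [mem_autGroup_iff _ hP, mem_autGroup_iff F (hP.trans hTS)]
  exact ⟨fun h => ⟨h.1, h.2.2.2⟩, fun h => ⟨h.1, hP, fun x => hP (α x).2, h.2⟩⟩

/-- The step of index `p`. -/
theorem step (hS : IsPGroup p S) (hF : F.IsSaturated p) (hA : Nat.card A = p)
    (hD : TauData F T L τ) (hTS : T ≤ S) (hfoc : F.focalSubgroup ≤ T) :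
    (tauSystem hD hTS).IsSaturated p ∧ (tauSystem hD hTS).HasPPowerIndexIn F p := by
  haveI := finite_of_le hTS
  set E := tauSystem hD hTS with hE
  haveI : Finite A := Nat.finite_of_card_ne_zero (hA ▸ (Fact.out : p.Prime).ne_zero)
  refine ⟨fun P hP => ?_, fun P φ hφ => hφ.1, ?_, fun P hP => ?_⟩
  swap
  · refine le_trans ?_ hfoc
    refine (Subgroup.closure_le _).mpr ?_
    rintro _ ⟨X, α, x, hX, -, rfl⟩
    exact focal_mem ((mem_autGroup_iff F hX).mp α.2) x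
  swap
  · -- automorphisms of order prime to `p`
    rw [pResidual, MonoidHom.map_closure, Subgroup.closure_le]
    rintro _ ⟨⟨α, hα⟩, hord, rfl⟩
    have hord' : Nat.Coprime (orderOf α) p := by
      have h : Nat.Coprime (orderOf (⟨α, hα⟩ : F.autGroup P)) p := hord
      rwa [Subgroup.orderOf_mk] at h
    obtain ⟨g, hg⟩ := hD.exists_realizes ((mem_autGroup_iff F (hP.trans hTS)).mp hα)
    refine (autGroup_realizes hD hTS hP).mpr ⟨hα, ?_⟩
    by_cases hτ : τ g = 1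
    · exact ⟨g, hτ, hg⟩
    have hpow : ∀ (k : ℕ), Realizes L (g ^ k) (P.subtype.comp (α ^ k).toMonoidHom) := by
      intro k
      induction k with
      | zero => intro u h₁ h₂; simp
      | succ k ih =>
        intro u h₁ h₂
        have e1 := ih u h₁ (hTS (hP ((α ^ k) u).2))
        have e2 := hg ((α ^ k) u) (hTS (hP ((α ^ k) u).2))
          (hTS (hP (α ((α ^ k) u)).2))
        rw [show L ⟨_, h₂⟩ = L ⟨(α ((α ^ k) u) : Ω), hTS (hP (α ((α ^ k) u)).2)⟩ from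
          congrArg L (Subtype.ext
            (congrArg (fun β : MulAut P => ((β u : P) : Ω)) (pow_succ' α k)))]
        refine e2.trans ?_
        rw [show L ⟨(((α ^ k) u : P) : Ω), hTS (hP ((α ^ k) u).2)⟩ =
          g ^ k * L ⟨u, h₁⟩ * (g ^ k)⁻¹ from e1, pow_succ']
        group
    have hc : ∀ u : S, (u : Ω) ∈ P → g ^ orderOf α * L u = L u * g ^ orderOf α := by
      intro u hu
      have h := hpow (orderOf α) ⟨u, hu⟩ u.2 (hTS (hP ((α ^ orderOf α) ⟨u, hu⟩).2))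
      have e : (⟨(((α ^ orderOf α) ⟨u, hu⟩ : P) : Ω), hTS (hP ((α ^ orderOf α) ⟨u, hu⟩).2)⟩ : S) = u :=
        Subtype.ext (congrArg (fun β : MulAut P => ((β ⟨u, hu⟩ : P) : Ω)) (pow_orderOf_eq_one α))
      have h' : L u = g ^ orderOf α * L u * (g ^ orderOf α)⁻¹ := (congrArg L e).symm.trans h
      conv_rhs => rw [h']
      group
    refine exists_realizes_ker hA hg hc fun h1 => hτ ?_
    rw [map_pow] at h1
    exact (powCoprime (hA ▸ hord'.symm : (Nat.card A).Coprime (orderOf α))).injective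
      (h1.trans (one_pow _).symm)
  -- saturation
  obtain ⟨Q₀, hQ₀c, hQ₀n⟩ := exists_isFullyNormalized F (hP.trans hTS)
  obtain ⟨φ₀, hφ₀, hφ₀r⟩ := hQ₀c
  obtain ⟨g, hg⟩ := hD.exists_realizes hφ₀
  obtain ⟨s, hs⟩ := hD.surj (τ g)⁻¹
  set Q := Q₀.map (MulAut.conj (s : Ω)).toMonoidHom with hQ
  have hQ₀T : Q₀ ≤ T := by
    rw [← hφ₀r]
    rintro _ ⟨x, rfl⟩
    exact apply_mem_of_focal_le hfoc hφ₀ x (hP x.2)
  have hQ₀S := hQ₀T.trans hTS
  set φ := (conjHom Q₀ (s : Ω)).comp (φ₀.codRestrict Q₀ fun x => hφ₀r.le ⟨x, rfl⟩) with hφdef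
  have hφF : φ ∈ F.Hom P := F.comp_mem hφ₀ (F.conj_mem hQ₀S s.2) _
  have hφr : φ.range = Q := by
    ext y
    constructor
    · rintro ⟨x, rfl⟩
      exact ⟨φ₀ x, hφ₀r.le ⟨x, rfl⟩, rfl⟩
    · rintro ⟨z, hz, rfl⟩
      obtain ⟨x, rfl⟩ := hφ₀r.ge hz
      exact ⟨x, rfl⟩
  have hQT : Q ≤ T := by
    rw [← hφr]
    rintro _ ⟨x, rfl⟩
    exact apply_mem_of_focal_le hfoc hφF x (hP x.2)
  have hQS := hQT.trans hTS
  have hφE : φ ∈ E.Hom P := by
    refine ⟨hφF, hP, fun x => hQT (hφr.le ⟨x, rfl⟩), L s * g, by rw [map_mul, hs, inv_mul_cancel],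
      hg.comp (realizes_conj (s := s)) _ fun x => apply_mem hφ₀ x⟩
  have hQc : F.IsConj Q₀ Q := ⟨conjHom Q₀ (s : Ω), F.conj_mem hQ₀S s.2, range_conjHom _ _⟩
  have hQn : F.IsFullyNormalized Q := ⟨hQS, fun R hR =>
    (hQ₀n.2 R (CfsgLib.Alperin.IsConj.trans hQc hR)).trans (normalizerIn_conj_card s.2)⟩
  obtain ⟨hQfc, hQfa⟩ := centralized_automized_of_fullyNormalized hS hF hQn
  have hQr := receptive_of_fullyNormalized hS hF hQn
  refine ⟨Q, ⟨φ, hφE, hφr⟩, ?_, ?_⟩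
  · -- fully automized
    refine ⟨hQT, ?_⟩
    haveI := finite_autGroup F hQS
    haveI := finite_of_le hQS
    haveI := finite_mulAut (P := Q)
    set AE := E.autGroup Q with hAE
    have hle : AE ≤ F.autGroup Q := fun α hα => ((autGroup_realizes hD hTS hQT).mp hα).1
    have hnorm : ∀ a ∈ F.autGroup Q, ∀ b ∈ AE, a * b * a⁻¹ ∈ AE := by
      intro a ha b hb
      obtain ⟨hbF, h, hh, hhr⟩ := (autGroup_realizes hD hTS hQT).mp hb
      obtain ⟨k, hk⟩ := hD.exists_realizes ((mem_autGroup_iff F hQS).mp ha)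
      refine (autGroup_realizes hD hTS hQT).mpr ⟨mul_mem (mul_mem ha hbF) (Subgroup.inv_mem _ ha),
        k * h * k⁻¹, by rw [map_mul, map_mul, map_inv, hh, mul_one, mul_inv_cancel],
        fun u h₁ h₂ => ?_⟩
      set v := a⁻¹ u with hv
      have e1 := hk v (hQS v.2) (hQS (a v).2)
      have e2 := hhr v (hQS v.2) (hQS (b v).2)
      have e3 := hk (b v) (hQS (b v).2) (hQS (a (b v)).2)
      rw [show L ⟨((Q.subtype.comp a.toMonoidHom) v : Ω), hQS (a v).2⟩ = L ⟨u, h₁⟩ from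
        congrArg L (Subtype.ext (by rw [hv]; simp))] at e1
      rw [show L ⟨_, h₂⟩ = L ⟨((Q.subtype.comp a.toMonoidHom) (b v) : Ω), hQS (a (b v)).2⟩ from
        congrArg L (Subtype.ext rfl), e3, e1]
      rw [show L ⟨((b v : Q) : Ω), hQS (b v).2⟩ = h * L ⟨v, hQS v.2⟩ * h⁻¹ from e2]
      group
    have hTAE : autInducedBy T Q ≤ AE := autInducedBy_le_autGroup E hQT
    -- the intersection with `Aut_S(Q)`
    have hinf : autInducedBy S Q ⊓ AE ≤ autInducedBy T Q := by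
      rintro α ⟨hαS, hαE⟩
      obtain ⟨n, hn, hnx⟩ := mem_autInducedBy_iff.mp hαS
      obtain ⟨-, h, hh, hhr⟩ := (autGroup_realizes hD hTS hQT).mp hαE
      have hnr : Realizes L (L ⟨n, hn⟩) (Q.subtype.comp α.toMonoidHom) := by
        intro u h₁ h₂
        refine Eq.trans ?_ (realizes_conj (P := Q) (s := ⟨n, hn⟩) u h₁
          (S.mul_mem (S.mul_mem hn h₁) (S.inv_mem hn)))
        exact congrArg L (Subtype.ext (hnx u))
      have hc := commute_of_realizes (fun x => hQS (α x).2) hnr hhr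
      by_cases hcent : centralizerIn S Q ≤ T
      · have hall : ∀ R, F.IsConj Q R → centralizerIn S R ≤ T := by
          intro R hR c hc'
          obtain ⟨ψ₀, hψ₀, hψ₀r⟩ := CfsgLib.Alperin.IsConj.symm hR
          obtain ⟨ψ, hψ, hψx⟩ := hQr.2 R ψ₀ hψ₀ hψ₀r
          have hcm : c ∈ extender S R ψ₀ := centralizerIn_le_extender R ψ₀ hc'
          have hψc : ψ ⟨c, hcm⟩ ∈ centralizerIn S Q :=
            apply_mem_centralizerIn hψ (le_extender hψ₀)
              ((map_subgroupOf_of_extends (le_extender hψ₀) hψx).trans hψ₀r)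
              ⟨c, hcm⟩ hc'.2
          have h1 := T.mul_mem (hcent hψc) (T.inv_mem (hfoc (focal_mem hψ ⟨c, hcm⟩)))
          rw [mul_inv_rev, inv_inv, mul_inv_cancel_left] at h1
          exact h1
        have hone : τ (h⁻¹ * L ⟨n, hn⟩) = 1 := hD.cent hQS hall _ fun u => hc ⟨u, hQS u.2⟩ u.2
        rw [map_mul, map_inv, hh, inv_one, one_mul] at hone
        exact mem_autInducedBy_iff.mpr ⟨n, (hD.ker ⟨n, hn⟩).mp hone, hnx⟩
      · obtain ⟨c, hcC, hcT⟩ := SetLike.not_le_iff_exists.mp hcent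
        have htop := zpowers_eq_top_of_prime_card hA (g := τ (L ⟨c, hcC.1⟩))
          fun e => hcT ((hD.ker ⟨c, hcC.1⟩).mp e)
        obtain ⟨k, hk⟩ := Subgroup.mem_zpowers_iff.mp
          (htop.ge (Subgroup.mem_top (τ (L ⟨n, hn⟩))⁻¹))
        refine mem_autInducedBy_iff.mpr ⟨n * c ^ k, ?_, fun x => ?_⟩
        · refine (hD.ker (⟨n, hn⟩ * ⟨c, hcC.1⟩ ^ k)).mp ?_
          rw [map_mul, map_mul, map_zpow, map_zpow, hk, mul_inv_cancel]
        · have h1 : Commute (c ^ k) (x : Ω) := Commute.zpow_left (hcC.2 x x.2).symm k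
          calc ((α x : Q) : Ω) = n * x * n⁻¹ := hnx x
            _ = n * ((x : Ω) * c ^ k) * (c ^ k)⁻¹ * n⁻¹ := by group
            _ = n * c ^ k * x * (n * c ^ k)⁻¹ := by rw [← h1.eq]; group
    obtain ⟨-, R, hR⟩ := hQfa
    have hRcard : Nat.card (autInducedBy S Q) = p ^ (Nat.card (F.autGroup Q)).factorization p := by
      rw [← Nat.card_congr (Subgroup.subgroupOfEquivOfLe (autInducedBy_le_autGroup F hQS)).toEquiv,
        ← hR]
      exact R.card_eq_multiplicity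
    haveI : Finite AE := inferInstance
    let P' : Sylow p AE := Classical.arbitrary _
    obtain ⟨v, hv, hvb⟩ := exists_conj_le (autInducedBy_le_autGroup F hQS) hRcard
      ((Subgroup.map_subtype_le _).trans hle) (P'.2.map AE.subtype)
    have hcard : Nat.card (autInducedBy T Q) = p ^ (Nat.card AE).factorization p := by
      refine le_antisymm (card_le_sylow_card_of_le hTAE
        (isPGroup_autInducedBy (isPGroup_of_le hS hTS) Q)) ?_
      rw [← P'.card_eq_multiplicity, ← Subgroup.card_map_of_injective AE.subtype_injective,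
        ← Subgroup.card_map_of_injective (f := (MulAut.conj v).toMonoidHom)
          (K := (P' : Subgroup AE).map AE.subtype) (MulAut.conj v).injective]
      refine Subgroup.card_le_of_le ?_
      rintro _ ⟨b, hb, rfl⟩
      exact hinf ⟨hvb b hb, hnorm v hv b (Subgroup.map_subtype_le _ hb)⟩
    refine ⟨Sylow.ofCard ((autInducedBy T Q).subgroupOf AE) ?_, rfl⟩
    rwa [Nat.card_congr (Subgroup.subgroupOfEquivOfLe hTAE).toEquiv]
  · -- receptive
    refine ⟨hQT, fun X χ hχ hχr => ?_⟩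
    obtain ⟨hχF, hXT, hχT, h, hh, hhr⟩ := hχ
    obtain ⟨ψ, hψ, hψx⟩ := hQr.2 X χ hχF hχr
    set N := extender T X χ with hN
    have hNS : N ≤ extender S X χ := by
      intro n hn
      obtain ⟨h1, h2, k, hk, h3⟩ := mem_extender_iff.mp hn
      exact mem_extender_iff.mpr ⟨hTS h1, h2, k, hTS hk, h3⟩
    have hNT : N ≤ T := extender_le X χ
    set ψN := ψ.comp (Subgroup.inclusion hNS) with hψN
    have hψNF : ψN ∈ F.Hom N := restrict_mem hψ hNS
    have hψNx : ∀ (x : Ω) (hx : x ∈ X) (hx' : x ∈ N), ψN ⟨x, hx'⟩ = χ ⟨x, hx⟩ := fun x hx hx' =>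
      hψx x hx (hNS hx')
    have hψNT : ∀ n, ψN n ∈ T := fun n => apply_mem_of_focal_le hfoc hψNF n (hNT n.2)
    have hXN : X ≤ N := fun x hx => mem_extender_iff.mpr ⟨hXT hx, Subgroup.le_normalizer hx,
      χ ⟨x, hx⟩, hχT _, fun y hy => by
        rw [show (⟨x * y * x⁻¹, hy⟩ : X) = ⟨x, hx⟩ * y * ⟨x, hx⟩⁻¹ from Subtype.ext rfl]
        simp⟩
    obtain ⟨g', hg'⟩ := hD.exists_realizes hψNF
    have hg'X : Realizes L g' χ := fun u h₁ h₂ => by
      refine Eq.trans ?_ (hg' ⟨u, hXN u.2⟩ h₁ (apply_mem hψNF _))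
      exact congrArg L (Subtype.ext (hψNx u u.2 _).symm)
    by_cases hcent : centralizerIn S Q ≤ T
    · have hXS : X ≤ S := hXT.trans hTS
      have hallX : ∀ R, F.IsConj X R → centralizerIn S R ≤ T := by
        intro R hR c hc'
        obtain ⟨ψ₀, hψ₀, hψ₀r⟩ := CfsgLib.Alperin.IsConj.trans
          (CfsgLib.Alperin.IsConj.symm hR) (⟨χ, hχF, hχr⟩ : F.IsConj X Q)
        obtain ⟨ψ', hψ', hψ'x⟩ := hQr.2 R ψ₀ hψ₀ hψ₀r
        have hcm : c ∈ extender S R ψ₀ := centralizerIn_le_extender R ψ₀ hc'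
        have hψc : ψ' ⟨c, hcm⟩ ∈ centralizerIn S Q :=
          apply_mem_centralizerIn hψ' (le_extender hψ₀)
            ((map_subgroupOf_of_extends (le_extender hψ₀) hψ'x).trans hψ₀r)
            ⟨c, hcm⟩ hc'.2
        have h1 := T.mul_mem (hcent hψc) (T.inv_mem (hfoc (focal_mem hψ' ⟨c, hcm⟩)))
        rw [mul_inv_rev, inv_inv, mul_inv_cancel_left] at h1
        exact h1
      have hone : τ (h⁻¹ * g') = 1 := hD.cent hXS hallX _ fun u =>
        commute_of_realizes (fun x => hTS (hχT x)) hg'X hhr ⟨u, hXS u.2⟩ u.2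
      rw [map_mul, map_inv, hh, inv_one, one_mul] at hone
      exact ⟨ψN, ⟨hψNF, hNT, hψNT, g', hone, hg'⟩, fun x hx hx' => hψNx x hx hx'⟩
    · obtain ⟨c, hcC, hcT⟩ := SetLike.not_le_iff_exists.mp hcent
      have htop := zpowers_eq_top_of_prime_card hA (g := τ (L ⟨c, hcC.1⟩))
        fun e => hcT ((hD.ker ⟨c, hcC.1⟩).mp e)
      obtain ⟨k, hk⟩ := Subgroup.mem_zpowers_iff.mp
        (htop.ge (Subgroup.mem_top (τ g')⁻¹))
      set d : S := ⟨c, hcC.1⟩ ^ k
      have hdd : (d : Ω) = c ^ k := SubgroupClass.coe_zpow _ _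
      set ρ := (conjHom S (d : Ω)).comp (ψN.codRestrict S (apply_mem hψNF)) with hρ
      have hρF : ρ ∈ F.Hom N := F.comp_mem hψNF (F.conj_mem le_rfl d.2) _
      refine ⟨ρ, ⟨hρF, hNT, fun n => apply_mem_of_focal_le hfoc hρF n (hNT n.2), L d * g', ?_,
        hg'.comp (realizes_conj (s := d)) _ (apply_mem hψNF)⟩, fun x hx hx' => ?_⟩
      · rw [map_mul, map_zpow, map_zpow, hk, inv_mul_cancel]
      · show (d : Ω) * ψN ⟨x, hx'⟩ * (d : Ω)⁻¹ = χ ⟨x, hx⟩
        rw [hψNx x hx hx', hdd]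
        have h1 : Commute (c ^ k) (χ ⟨x, hx⟩) :=
          Commute.zpow_left (hcC.2 _ (hχr.le ⟨_, rfl⟩)).symm k
        rw [h1.eq, mul_inv_cancel_right]

/-- Existence of saturated subsystems of `p`-power index. -/
theorem exists_pPowerIndex (hS : IsPGroup p S) (hF : F.IsSaturated p) (hTS : T ≤ S)
    (hT : F.hyperfocalSubgroup p ≤ T) :
    ∃ E : FusionSystem T, E.IsSaturated p ∧ E.HasPPowerIndexIn F p := by
  suffices h : ∀ (n : ℕ) (S' : Subgroup Ω) (F' : FusionSystem S'), Nat.card S' = n → S' ≤ S →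
      IsPGroup p S' → F'.IsSaturated p → F'.HasPPowerIndexIn F p → T ≤ S' →
      ∃ E : FusionSystem T, E.IsSaturated p ∧ E.HasPPowerIndexIn F p from
    h _ S F rfl le_rfl hS hF ⟨fun _ _ h => h, CfsgLib.FusionSub.hyperfocal_le F p,
      fun P _ => Subgroup.map_subtype_le _⟩ hTS
  intro n
  induction n using Nat.strong_induction_on with
  | _ n ih =>
  intro S' F' hn hS'S hS' hF' hpp hTS'
  rcases hTS'.eq_or_lt with rfl | hlt
  · exact ⟨F', hF', hpp⟩
  haveI : Finite S' := finite_of_le hS'S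
  have hne : T.subgroupOf S' ≠ ⊤ := fun h => hlt.not_ge (Subgroup.subgroupOf_eq_top.mp h)
  obtain ⟨M₀, hM₀, hTM⟩ := (eq_top_or_exists_le_coatom (T.subgroupOf S')).resolve_left hne
  haveI : Group.IsNilpotent S' := hS'.isNilpotent
  haveI hM₀n : M₀.Normal :=
    Subgroup.NormalizerCondition.normal_of_coatom M₀ Group.normalizerCondition_of_isNilpotent hM₀
  set M := M₀.map S'.subtype with hM
  have hMS' : M ≤ S' := Subgroup.map_subtype_le M₀
  have hMsub : M.subgroupOf S' = M₀ := Subgroup.comap_map_eq_self_of_injective S'.subtype_injective M₀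
  have hTMle : T ≤ M := fun x hx => ⟨⟨x, hTS' hx⟩, hTM hx, rfl⟩
  haveI : IsSimpleGroup (S' ⧸ M₀) := by
    haveI : Nontrivial (S' ⧸ M₀) := (QuotientGroup.nontrivial_iff).mpr hM₀.1
    refine ⟨fun K hK => ?_⟩
    rcases hM₀.le_iff.mp (QuotientGroup.le_comap_mk' M₀ K) with h | h
    · right
      rw [← Subgroup.map_comap_eq_self_of_surjective (QuotientGroup.mk'_surjective M₀) K, h,
        Subgroup.map_top_of_surjective _ (QuotientGroup.mk'_surjective M₀)]
    · left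
      rw [← Subgroup.map_comap_eq_self_of_surjective (QuotientGroup.mk'_surjective M₀) K, h,
        QuotientGroup.map_mk'_self]
  have hpq : IsPGroup p (S' ⧸ M₀) := hS'.to_quotient M₀
  have hidx : (M.subgroupOf S').index = p := by
    rw [hMsub, Subgroup.index_eq_card]
    haveI : Nontrivial (S' ⧸ M₀) := IsSimpleGroup.toNontrivial
    have htop : Subgroup.center (S' ⧸ M₀) = ⊤ :=
      (Subgroup.Normal.eq_bot_or_eq_top inferInstance).resolve_left fun h => by
        haveI := hpq.center_nontrivial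
        exact (Subgroup.nontrivial_iff_ne_bot _).mp inferInstance h
    letI : CommGroup (S' ⧸ M₀) := Group.commGroupOfCenterEqTop htop
    obtain ⟨q, hq⟩ := hpq.exists_card_eq
    have hprime := IsSimpleGroup.prime_card (α := S' ⧸ M₀)
    rw [hq] at hprime ⊢
    rw [Nat.Prime.eq_one_of_pow hprime, pow_one]
  have hhyp : F'.hyperfocalSubgroup p ≤ M := by
    rw [CfsgLib.FusionSub.hyperfocal_eq_of_pPowerIndex hS hpp]
    exact hT.trans hTMle
  have hfoc : F'.focalSubgroup ≤ M := by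
    rw [focal_eq_hyperfocal_sup hS' hF']
    refine sup_le hhyp ?_
    have hle : commutator S' ≤ M₀ := by
      haveI : IsCyclic (S' ⧸ M₀) := isCyclic_of_prime_card (p := p) (by
        rw [← Subgroup.index_eq_card, ← hMsub, hidx])
      letI : CommGroup (S' ⧸ M₀) := IsCyclic.commGroup
      exact Subgroup.Normal.quotient_commutative_iff_commutator_le.mp inferInstance
    have h4 := Subgroup.map_commutator (⊤ : Subgroup S') ⊤ S'.subtype
    rw [← MonoidHom.range_eq_map, Subgroup.range_subtype] at h4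
    rw [← h4]
    exact Subgroup.map_mono hle
  obtain ⟨H, _, _, A, _, L, τ, hA, hD⟩ := exists_tauData hS' hF' hMS' hfoc hidx
  obtain ⟨hEs, hEp⟩ := step hS' hF' hA hD hMS' hfoc
  set E := tauSystem hD hMS'
  have hcard : Nat.card M < n := by
    rw [← hn]
    refine CfsgLib.FusionSub.card_lt_card le_rfl (lt_of_le_of_ne hMS' fun h => hM₀.1 ?_)
    rw [← hMsub, h, Subgroup.subgroupOf_self]
  refine ih _ hcard M E rfl (hMS'.trans hS'S) (isPGroup_of_le hS (hMS'.trans hS'S)) hEs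
    ⟨fun P φ hφ => hpp.1 P (hEp.1 P hφ), hT.trans hTMle, fun P hP => ?_⟩ hTMle
  rw [pResidual, MonoidHom.map_closure, Subgroup.closure_le]
  rintro _ ⟨⟨α, hα⟩, hord, rfl⟩
  have hord' : Nat.Coprime (orderOf α) p := by
    have h : Nat.Coprime (orderOf (⟨α, hα⟩ : F.autGroup P)) p := hord
    rwa [Subgroup.orderOf_mk] at h
  have h1 : α ∈ F'.autGroup P := hpp.2.2 P (hP.trans hMS')
    (CfsgLib.FusionSub.mem_map_pResidual_of_coprime F hα hord')
  exact hEp.2.2 P hP (CfsgLib.FusionSub.mem_map_pResidual_of_coprime F' h1 hord')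

end CfsgLib.FusionBasics.PPower
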