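import Cfsg.Agent.Lib.FusionBasics.PPower.Tate
import Cfsg.Agent.Lib.FusionBasics.Transport
import Cfsg.Agent.Lib.FusionBasics.KSystem
import Cfsg.Agent.Lib.FusionSub.Puig
import Cfsg.Agent.Lib.FusionExamples.Abelian

/-!
Nilpotency criteria from Tate's theorem.
-/

set_option autoImplicit false
set_option linter.style.haveILetI false

namespace CfsgLib.FusionBasics.PPower

open Cfsg Cfsg.FusionSystem CfsgLib.Alperin

universe u

variable {Ω : Type u} [Group Ω] {S : Subgroup Ω} [Finite S] {p : ℕ} [Fact p.Prime]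
  {F : FusionSystem S}

/-- The inner system of a finite `p`-group is saturated. -/
theorem inner_isSaturated (hS : IsPGroup p S) : (innerFusionSystem S).IsSaturated p := by
  refine isSaturated_of_realized (ι := MonoidHom.id S)
    ⟨Function.injective_id, fun P hP φ hφ => ?_⟩
    ((hS.to_subgroup ⊤).toSylow (by rw [Subgroup.index_top]; exact (Fact.out : p.Prime).not_dvd_one))
    (MonoidHom.range_eq_top.mpr Function.surjective_id).symm
  constructor
  · rintro ⟨-, g, hg, h⟩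
    exact ⟨⟨g, hg⟩, fun x => Subtype.ext (h x)⟩
  · rintro ⟨g, h⟩
    exact ⟨hP, g, g.2, fun x => congrArg Subtype.val (h x)⟩

theorem hyperfocal_inner_eq_bot (hS : IsPGroup p S) :
    (innerFusionSystem S).hyperfocalSubgroup p = ⊥ := by
  refine le_bot_iff.mp ((Subgroup.closure_le _).mpr ?_)
  rintro _ ⟨P, α, x, hP, hα, rfl⟩
  haveI := finite_of_le hP
  have hle : (innerFusionSystem S).autGroup P ≤ autInducedBy S P := fun β hβ => by
    obtain ⟨-, g, hg, h⟩ := (mem_autGroup_iff (innerFusionSystem S) hP).mp hβ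
    exact mem_autInducedBy_iff.mpr ⟨g, hg, h⟩
  have hp' : IsPGroup p ((innerFusionSystem S).autGroup P) :=
    (isPGroup_autInducedBy hS P).to_le hle
  have hbot : pResidual p ((innerFusionSystem S).autGroup P) = ⊥ := by
    refine le_bot_iff.mp ((Subgroup.closure_le _).mpr ?_)
    intro β hβ
    obtain ⟨k, hk⟩ := IsPGroup.iff_orderOf.mp hp' β
    have h1 : (orderOf β).Coprime p := hβ
    rw [hk] at h1
    rcases k with _ | k
    · exact Subgroup.mem_bot.mpr (orderOf_eq_one_iff.mp (by rw [hk, pow_zero]))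
    · exact absurd (Nat.Coprime.coprime_dvd_left (dvd_pow_self p (Nat.succ_ne_zero k)) h1)
        fun h => (Fact.out : p.Prime).ne_one (Nat.coprime_self p |>.mp h)
  rw [hbot, Subgroup.mem_bot] at hα
  show (x : Ω)⁻¹ * _ ∈ ((⊥ : Subgroup Ω) : Set Ω)
  rw [hα]
  simp

/-- A system without hyperfocal subgroup is inner. -/
theorem hom_eq_inner_of_hyperfocal_eq_bot (hS : IsPGroup p S) (hF : F.IsSaturated p)
    (h : F.hyperfocalSubgroup p = ⊥) (P : Subgroup Ω) :
    F.Hom P = (innerFusionSystem S).Hom P := by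
  refine Set.Subset.antisymm (fun φ hφ => ?_) (CfsgLib.FusionExamples.inner_le F P)
  obtain ⟨c, hc, hcu⟩ := exists_congr hS hF hφ
  refine ⟨dom_le hφ, c, hc, fun u => ?_⟩
  have h1 := hcu u
  rw [h, Subgroup.mem_bot, inv_mul_eq_one] at h1
  exact h1.symm

/-- A system whose focal subgroup lies in the Frattini subgroup is inner. -/
theorem hom_eq_inner_of_focal_le_frattini (hS : IsPGroup p S) (hF : F.IsSaturated p)
    (h : F.focalSubgroup ≤ (frattini S).map S.subtype) (P : Subgroup Ω) :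
    F.Hom P = (innerFusionSystem S).Hom P :=
  hom_eq_inner_of_hyperfocal_eq_bot hS hF
    ((hyperfocal_eq_of_frattini_sup_focal hS hF (inner_isSaturated hS)
      (fun P => CfsgLib.FusionExamples.inner_le F P) (h.trans le_sup_left)).trans
        (hyperfocal_inner_eq_bot hS)) P

/-- If `Φ(S)` is strongly closed and the automorphisms of `S` are inner, the focal subgroup lies
in `Φ(S)`. -/
theorem focal_le_frattini (hS : IsPGroup p S) (hF : F.IsSaturated p)
    (hT : F.StronglyClosed ((frattini S).map S.subtype))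
    (hin : ∀ φ ∈ F.Hom S, ∃ g ∈ S, ∀ x : S, φ x = g * (x : Ω) * g⁻¹) :
    F.focalSubgroup ≤ (frattini S).map S.subtype := by
  set T := (frattini S).map S.subtype with hTdef
  have hcomm : ∀ a ∈ S, ∀ b ∈ S, a⁻¹ * (b * a * b⁻¹) ∈ T := by
    intro a ha b hb
    haveI : Group.IsNilpotent S := hS.isNilpotent
    refine ⟨(⟨a, ha⟩ : S)⁻¹ * (⟨b, hb⟩ * ⟨a, ha⟩ * (⟨b, hb⟩ : S)⁻¹), ?_, rfl⟩
    rw [SetLike.mem_coe, frattini, Order.radical, Subgroup.mem_iInf]
    intro M
    rw [Subgroup.mem_iInf]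
    intro hM
    haveI : M.Normal :=
      Subgroup.NormalizerCondition.normal_of_coatom M Group.normalizerCondition_of_isNilpotent hM
    set q := QuotientGroup.mk' M with hq
    have hsimple : IsSimpleGroup (S ⧸ M) := by
      haveI : Nontrivial (S ⧸ M) := QuotientGroup.nontrivial_iff.mpr hM.1
      refine ⟨fun K hK => ?_⟩
      rcases hM.le_iff.mp (QuotientGroup.le_comap_mk' M K) with h | h
      · right
        rw [← Subgroup.map_comap_eq_self_of_surjective (QuotientGroup.mk'_surjective M) K, h,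
          Subgroup.map_top_of_surjective _ (QuotientGroup.mk'_surjective M)]
      · left
        rw [← Subgroup.map_comap_eq_self_of_surjective (QuotientGroup.mk'_surjective M) K, h,
          QuotientGroup.map_mk'_self]
    haveI : Nontrivial (S ⧸ M) := IsSimpleGroup.toNontrivial
    have htop : Subgroup.center (S ⧸ M) = ⊤ :=
      (Subgroup.Normal.eq_bot_or_eq_top inferInstance).resolve_left fun h => by
        haveI := (hS.to_quotient M).center_nontrivial
        exact (Subgroup.nontrivial_iff_ne_bot _).mp inferInstance h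
    refine (QuotientGroup.eq_one_iff _).mp ?_
    change q _ = 1
    have hc : q ⟨b, hb⟩ * q ⟨a, ha⟩ = q ⟨a, ha⟩ * q ⟨b, hb⟩ :=
      Subgroup.mem_center_iff.mp (htop.ge (Subgroup.mem_top (q ⟨a, ha⟩))) _
    rw [map_mul, map_mul, map_mul, map_inv, map_inv, hc, mul_inv_cancel_right, inv_mul_cancel]
  have hTS : T ≤ S := hT.1
  refine (Subgroup.closure_le _).mpr ?_
  rintro _ ⟨P, φ, x, hφ, rfl⟩
  suffices h : ∀ y : P, (y : Ω)⁻¹ * φ y ∈ T from h x
  let Good : ∀ R : Subgroup Ω, (R →* Ω) → Prop := fun R ψ => ∀ y : R, (y : Ω)⁻¹ * ψ y ∈ T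
  have hclosed : CfsgLib.FusionSub.Closed F Good :=
    { restrict := fun hQ _ h y => h (Subgroup.inclusion hQ y)
      comp := fun {P Q φ ψ} _ _ hv h1 h2 y => by
        have h3 := T.mul_mem (h1 y) (h2 ⟨φ y, hv y⟩)
        rwa [mul_assoc, mul_inv_cancel_left] at h3
      inv := fun {P Q φ ψ} _ _ hr hψ h y => by
        obtain ⟨v, hv⟩ := hr.ge y.2
        obtain rfl : y = ⟨φ v, hr.le ⟨v, rfl⟩⟩ := Subtype.ext hv.symm
        rw [hψ]
        simpa using T.inv_mem (h v) }
  refine CfsgLib.FusionSub.closed_induction (Good := Good) hS hF hclosed (fun Q hQ _ α hα y => ?_) hφ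
  -- lift to the normal subgroup `Q Φ(S)`
  have hα' := (mem_autGroup_iff F hQ.1).mp hα
  obtain ⟨φ', hφ', hcongr⟩ := CfsgLib.FusionSub.exists_lift_mod hS hF hT hα'
  let Q' := Q ⊔ T
  have hQ'S : Q' ≤ S := sup_le hQ.1 hTS
  haveI := finite_of_le hQ'S
  obtain ⟨α', hα'm, hα'x⟩ := exists_aut_of_hom' F hφ' fun z =>
    CfsgLib.FusionSub.apply_mem_sup hT hφ' hcongr (fun w => (α w).2) z
  have hnorm : normalizerIn S Q' = S := by
    refine le_antisymm (normalizerIn_le S Q') fun s hs => ⟨hs, ?_⟩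
    have hmap : ∀ s ∈ S, ∀ a ∈ Q', s * a * s⁻¹ ∈ Q' := fun s hs a ha => by
      have h1 := Q'.mul_mem ha (Subgroup.mem_sup_right (hcomm a (hQ'S ha) s hs))
      rwa [mul_inv_cancel_left] at h1
    refine Subgroup.mem_normalizer_iff.mpr fun a => ⟨hmap s hs a, fun h => ?_⟩
    simpa [mul_assoc] using hmap s⁻¹ (S.inv_mem hs) _ h
  have hQ'n : F.IsFullyNormalized Q' := ⟨hQ'S, fun R _ => by
    rw [hnorm]
    exact Subgroup.card_le_of_le (normalizerIn_le S R)⟩
  let K : Subgroup (MulAut Q') :=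
    { carrier := {β | ∀ z : Q', (z : Ω)⁻¹ * ((β z : Q') : Ω) ∈ T}
      one_mem' := fun z => by simp
      mul_mem' := fun {β γ} hβ hγ z => by
        have h1 := T.mul_mem (hγ z) (hβ (γ z))
        rw [mul_assoc, mul_inv_cancel_left] at h1
        exact h1
      inv_mem' := fun {β} hβ z => by
        simpa using T.inv_mem (hβ (β⁻¹ z)) }
  have hK : ∀ β ∈ F.autGroup Q', ∀ κ ∈ K, β * κ * β⁻¹ ∈ K := by
    intro β hβ κ hκ z
    have h1 : (((β⁻¹ z)⁻¹ * κ (β⁻¹ z) : Q') : Ω) ∈ T := hκ (β⁻¹ z)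
    have h2 := CfsgLib.FusionSub.stronglyClosed_apply hT ((mem_autGroup_iff F hQ'S).mp hβ) _ h1
    simpa using h2
  obtain ⟨κ, hκ, χ, -, hκχ, R, hQR, ψ, hRN, hψ, hψx, hRK⟩ :=
    CfsgLib.FusionSub.frattini_extend hS hF hQ'n K hK hα'm
  have hRS : R = S := by
    refine le_antisymm (hRN.trans (normalizerIn_le S Q')) fun s hs => ?_
    refine hRK s hs (hnorm.ge hs).2 fun z => ?_
    rw [conjAut_apply]
    exact hcomm z (hQ'S z.2) s hs
  obtain ⟨g, hg, hgx⟩ := hin _ (restrict_mem hψ hRS.ge)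
  set z : Q' := Subgroup.inclusion le_sup_left y with hz
  have h1 : (z : Ω)⁻¹ * ((χ z : Q') : Ω) ∈ T := by
    rw [← hψx z, show ψ ⟨z, hQR z.2⟩ = g * (z : Ω) * g⁻¹ from hgx ⟨z, hQ'S z.2⟩]
    exact hcomm z (hQ'S z.2) g hg
  have h2 : (z : Ω)⁻¹ * φ' z ∈ T := by
    have h3 := T.mul_mem h1 (hκ.1 (χ z))
    rw [mul_assoc, mul_inv_cancel_left] at h3
    rw [← hα'x z, hκχ]
    exact h3
  have h5 : φ' z * ((α y : Q) : Ω)⁻¹ ∈ T := hcongr y
  -- `φ' y ≡ α y` on the right; move the difference to the left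
  have h6 : (φ' z * ((α y : Q) : Ω)⁻¹)⁻¹ ∈ T := T.inv_mem h5
  have hn : ∀ t ∈ T, ∀ s ∈ S, s⁻¹ * t * s ∈ T := fun t ht s hs => by
    have h7 := T.mul_mem ht (hcomm t (hTS ht) s⁻¹ (S.inv_mem hs))
    rw [mul_inv_cancel_left, inv_inv] at h7
    exact h7
  show (y : Ω)⁻¹ * ((α y : Q) : Ω) ∈ T
  have h8 := T.mul_mem h2 (hn _ h6 (φ' z) (apply_mem hφ' z))
  have e : (z : Ω)⁻¹ * φ' z * ((φ' z)⁻¹ * (φ' z * ((α y : Q) : Ω)⁻¹)⁻¹ * φ' z) =
      (y : Ω)⁻¹ * ((α y : Q) : Ω) := by
    rw [hz, Subgroup.coe_inclusion]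
    group
  rwa [e] at h8

end CfsgLib.FusionBasics.PPower
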