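import Cfsg.Agent.Lib.FusionSub.Residual
import Cfsg.Agent.Lib.FusionExamples.Hyperfocal

/-!
Modulo the hyperfocal subgroup every map of a saturated system is conjugation by an element of `S`.
-/

set_option autoImplicit false
set_option linter.style.haveILetI false

namespace CfsgLib.FusionBasics.PPower

open Cfsg Cfsg.FusionSystem CfsgLib.Alperin

universe u

variable {Ω : Type u} [Group Ω] {S : Subgroup Ω} [Finite S] {p : ℕ} [Fact p.Prime]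
  {F : FusionSystem S}

/-- The maps congruent to conjugations modulo the hyperfocal subgroup. -/
def congrSystem (F : FusionSystem S) (p : ℕ) [Fact p.Prime] : FusionSystem S where
  Hom P := {φ | φ ∈ F.Hom P ∧
    ∃ c ∈ S, ∀ u : P, (c * u * c⁻¹)⁻¹ * φ u ∈ F.hyperfocalSubgroup p}
  le_of_mem h := F.le_of_mem h.1
  injective_of_mem h := F.injective_of_mem h.1
  conj_mem {P g} hP hg := ⟨F.conj_mem hP hg, g, hg, fun u => by
    rw [conjHom_apply, inv_mul_cancel]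
    exact Subgroup.one_mem _⟩
  comp_mem {P Q φ ψ} := by
    rintro ⟨hφ, c, hc, hcu⟩ ⟨hψ, d, hd, hdu⟩ hv
    refine ⟨F.comp_mem hφ hψ hv, d * c, S.mul_mem hd hc, fun u => ?_⟩
    have e : (d * c * u * (d * c)⁻¹)⁻¹ * ψ ⟨φ u, hv u⟩ =
        d * ((c * u * c⁻¹)⁻¹ * φ u) * d⁻¹ * ((d * φ u * d⁻¹)⁻¹ * ψ ⟨φ u, hv u⟩) := by group
    show (d * c * u * (d * c)⁻¹)⁻¹ * ψ ⟨φ u, hv u⟩ ∈ _
    rw [e]
    exact Subgroup.mul_mem _ (CfsgLib.FusionExamples.hyperfocal_conj_mem hd (hcu u)) (hdu ⟨φ u, hv u⟩)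
  inv_mem {P φ} := by
    rintro ⟨hφ, c, hc, hcu⟩
    obtain ⟨θ, hθ, hθx⟩ := F.inv_mem hφ
    refine ⟨θ, ⟨hθ, c⁻¹, S.inv_mem hc, ?_⟩, hθx⟩
    rintro ⟨_, u, rfl⟩
    rw [hθx]
    set k := (c * u * c⁻¹)⁻¹ * φ u with hk
    have e : φ u = c * u * c⁻¹ * k := by rw [hk]; group
    show (c⁻¹ * φ u * c⁻¹⁻¹)⁻¹ * u ∈ _
    rw [e, show (c⁻¹ * (c * u * c⁻¹ * k) * c⁻¹⁻¹)⁻¹ * u = c⁻¹ * k⁻¹ * c⁻¹⁻¹ by group]
    exact CfsgLib.FusionExamples.hyperfocal_conj_mem (S.inv_mem hc)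
      (Subgroup.inv_mem _ (hcu u))

theorem exists_congr (hS : IsPGroup p S) (hF : F.IsSaturated p) {P : Subgroup Ω} {φ : P →* Ω}
    (hφ : φ ∈ F.Hom P) :
    ∃ c ∈ S, ∀ u : P, (c * u * c⁻¹)⁻¹ * φ u ∈ F.hyperfocalSubgroup p := by
  have hD : (congrSystem F p).HasPPowerIndexIn F p := by
    refine ⟨fun Q ψ h => h.1, CfsgLib.FusionSub.hyperfocal_le F p, fun Q hQ => ?_⟩
    rw [pResidual, MonoidHom.map_closure, Subgroup.closure_le]
    rintro _ ⟨⟨α, hα⟩, hord, rfl⟩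
    have hord' : Nat.Coprime (orderOf α) p := by
      have h : Nat.Coprime (orderOf (⟨α, hα⟩ : F.autGroup Q)) p := hord
      rwa [Subgroup.orderOf_mk] at h
    refine (mem_autGroup_iff _ hQ).mpr ⟨(mem_autGroup_iff F hQ).mp hα, 1, S.one_mem, fun u => ?_⟩
    rw [inv_one, mul_one, one_mul]
    exact CfsgLib.FusionSub.mem_hyperfocal F hQ
      (CfsgLib.FusionSub.mem_map_pResidual_of_coprime F hα hord') u
  exact (CfsgLib.FusionSub.subsystem_of_pPowerIndex hS hF (fun _ _ h => h) hD le_rfl P hφ).2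

end CfsgLib.FusionBasics.PPower
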