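import Cfsg.Agent.Lib.FusionBasics.PPower.Main
import Cfsg.Agent.Lib.FusionBasics.PPower.Congruence
import Cfsg.Agent.Lib.PSolvable.FrattiniFacts
import Mathlib.GroupTheory.Frattini

/-!
Tate's theorem for saturated fusion systems: a homomorphism on the hyperfocal subgroup to a central
section of order `p` extends to `S`, by averaging over a stable biset.
-/

set_option autoImplicit false
set_option linter.style.haveILetI false

namespace CfsgLib.FusionBasics.PPower

open Cfsg Cfsg.FusionSystem CfsgLib.Alperin CfsgLib.FusionExamples CfsgLib.FusionExamples.Biset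
  CfsgLib.FusionExamples.Monomial CfsgLib.FusionExamples.Marks

universe u

variable {Ω : Type u} [Group Ω] {S : Subgroup Ω} [Finite S] {p : ℕ} [Fact p.Prime]
  {F : FusionSystem S}

/-- A subgroup of index `p` of the hyperfocal subgroup which is normal in `S` with central
quotient is cut out by a homomorphism of `S` onto a group of order `p`. -/
theorem exists_extension_hom (hS : IsPGroup p S) (hF : F.IsSaturated p) {M K : Subgroup S}
    (hK : K = (F.hyperfocalSubgroup p).subgroupOf S) (hKn : K.Normal) [M.Normal]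
    (hcard : Nat.card (K.map (QuotientGroup.mk' M)) = p)
    (hcent : K.map (QuotientGroup.mk' M) ≤ Subgroup.center (S ⧸ M)) :
    ∃ f : S →* ↥(K.map (QuotientGroup.mk' M)), (∀ u ∈ M, u ∈ K → f u = 1) ∧
      ∃ u ∈ K, f u ≠ 1 := by
  classical
  haveI := hKn
  set π := QuotientGroup.mk' M with hπ
  set Z := K.map π with hZdef
  haveI : IsCyclic Z := isCyclic_of_prime_card hcard
  letI : CommGroup Z := IsCyclic.commGroup
  haveI hZn : Z.Normal := Subgroup.Normal.map hKn π (QuotientGroup.mk'_surjective M)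
  let ρ := QuotientGroup.mk' K
  have hρ : ∀ x : S, ρ x = 1 ↔ x ∈ K := fun x => QuotientGroup.eq_one_iff x
  have hπK : ∀ x, x ∈ K → π x ∈ Z := fun x hx => Subgroup.mem_map_of_mem π hx
  have hcomm : ∀ {z : S ⧸ M}, z ∈ Z → ∀ a, a * z = z * a := fun hz a =>
    Subgroup.mem_center_iff.mp (hcent hz) a
  obtain ⟨m, hm, d, hd, hmcard⟩ := exists_stable_saturated hS hF (isCentral_bot F)
  have hfree : ∀ (b : S) (x : RightSet m), b • x = x → b = 1 := by
    intro b x hb
    have h1 : ((1 : S), b) ∈ MulAction.stabilizer (↥S × ↥S) (show MSet m from x) := hb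
    exact congrArg Prod.snd
      ((stabilizer_mem (isCentral_bot F) hm.1 (show MSet m from x)).2.fst_injective h1
        (one_mem _) rfl)
  haveI : Finite (Orb S (RightSet m)) := Quotient.finite _
  letI := Fintype.ofFinite (Orb S (RightSet m))
  have hn : ¬ p ∣ Nat.card (Orb S (RightSet m)) := by
    have h : Nat.card (RightSet m) = Nat.card (Orb S (RightSet m)) * Nat.card S := by
      rw [← Nat.card_prod]
      exact Nat.card_congr
        { toFun := fun x => (orb x, co x)
          invFun := fun q => q.2 • sec q.1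
          left_inv := fun x => co_spec x
          right_inv := fun q => by
            obtain ⟨h1, h2⟩ := eq_of_smul_sec hfree (x := q.2 • sec q.1) rfl
            exact Prod.ext h1 h2 }
    rwa [Nat.eq_of_mul_eq_mul_right Nat.card_pos (h.symm.trans hmcard)]
  let L := leftHom m
  -- values at stabilizers
  have hgraph : ∀ y : Orb S (RightSet m), ∃ c : S, ∀ u : S, orbMove (L u) y = y →
      ρ (coeff (L u) y) = ρ c * (ρ u)⁻¹ * (ρ c)⁻¹ := by
    intro y
    obtain ⟨χ, hχ, hχx⟩ :=
      (stabilizer_mem (isCentral_bot F) hm.1 (show MSet m from (sec y : RightSet m))).2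
    obtain ⟨c, hc, hcu⟩ := exists_congr hS hF hχ
    refine ⟨⟨c, hc⟩, fun u hu => ?_⟩
    have h1 := apply_sec (L u) y
    rw [hu] at h1
    have hstab : ((u, (coeff (L u) y)⁻¹) : ↥S × ↥S) ∈
        MulAction.stabilizer (↥S × ↥S) (show MSet m from (sec y : RightSet m)) := by
      rw [MulAction.mem_stabilizer_iff,
        show ((u, (coeff (L u) y)⁻¹) : ↥S × ↥S) =
          ((1 : S), (coeff (L u) y)⁻¹) * ((u, 1) : ↥S × ↥S) from
            Prod.ext (one_mul _).symm (mul_one _).symm, mul_smul]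
      show (coeff (L u) y)⁻¹ • ((L u : Equiv.Perm (RightSet m)) (sec y)) = sec y
      rw [h1, inv_smul_smul]
    have h2 := hcu ⟨u, fst_mem hstab⟩
    rw [hχx _ hstab] at h2
    have h3 : ((⟨c, hc⟩ : S) * u * (⟨c, hc⟩ : S)⁻¹)⁻¹ * (coeff (L u) y)⁻¹ ∈ K := by
      rw [hK, Subgroup.mem_subgroupOf]
      exact h2
    rw [← hρ, map_mul, map_inv, map_inv, map_mul, map_mul, map_inv, inv_mul_eq_one] at h3
    rw [← inv_inv (ρ (coeff (L u) y)), ← h3]
    group
  choose c₀ hc₀ using hgraph
  -- the grading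
  letI := orbAction hfree
  letI actS : MulAction S (Orb S (RightSet m)) := MulAction.compHom _ L
  have hsmul : ∀ (u : S) (y : Orb S (RightSet m)), u • y = orbMove (L u) y := fun _ _ => rfl
  have hmv : ∀ (u v : S) y, coeff (L (u * v)) y = coeff (L v) y * coeff (L u) (v • y) :=
    fun u v y => by rw [map_mul, (move_mul hfree _ _ _).2, ← hsmul]
  let base : Orb S (RightSet m) → Orb S (RightSet m) := fun y =>
    (Quotient.mk (MulAction.orbitRel S (Orb S (RightSet m))) y).out
  have hbase : ∀ y, ∃ v : S, v • base y = y := fun y => by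
    obtain ⟨v, hv⟩ := MulAction.orbitRel_apply.mp
      (Quotient.exact (Quotient.out_eq (Quotient.mk (MulAction.orbitRel S _) y)))
    exact ⟨v⁻¹, by rw [← show v • y = base y from hv, inv_smul_smul]⟩
  have hbase' : ∀ (u : S) y, base (u • y) = base y := fun u y =>
    congrArg Quotient.out
      (Quotient.sound (MulAction.orbitRel_apply.mpr (MulAction.mem_orbit y u)))
  choose v hv using hbase
  let ν : Orb S (RightSet m) → S := fun y => v y * (c₀ (base y))⁻¹ * coeff (L (v y)) (base y)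
  have hgrade : ∀ (u : S) y, ν y * coeff (L u) y * (ν (u • y))⁻¹ * u ∈ K := by
    intro u y
    rw [← hρ]
    set y₀ := base y with hy₀
    set r := (u * v y)⁻¹ * v (u • y) with hr
    have e1 : v y • y₀ = y := hv y
    have e2 : v (u • y) • y₀ = u • y :=
      (congrArg (fun z => v (u • y) • z) (hbase' u y).symm).trans (hv (u • y))
    have hry : r • y₀ = y₀ := by
      rw [hr, mul_smul, e2, mul_inv_rev, mul_smul, inv_smul_smul, inv_smul_eq_iff, e1]
    have h3 : v (u • y) = u * v y * r := by rw [hr, mul_inv_cancel_left]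
    clear_value r
    have h1 : coeff (L (v (u • y))) y₀ = coeff (L r) y₀ * (coeff (L (v y)) y₀ * coeff (L u) y) := by
      rw [h3, hmv, hry, hmv, e1]
    have h2 := hc₀ y₀ r hry
    simp only [ν, hbase', ← hy₀]
    rw [h1, h3]
    simp only [map_mul, map_inv, h2]
    group
  -- the homomorphism
  let ζ : S → Orb S (RightSet m) → Z := fun s y =>
    ⟨π (ν y * coeff (L s) y * (ν (s • y))⁻¹ * s), hπK _ (hgrade s y)⟩
  have hζ : ∀ s t y, ζ (s * t) y = ζ t y * ζ s (t • y) := by
    intro s t y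
    refine Subtype.ext ?_
    show π _ = π _ * π _
    have e : ν y * coeff (L (s * t)) y * (ν ((s * t) • y))⁻¹ * (s * t) =
        (ν y * coeff (L t) y * (ν (t • y))⁻¹) *
          (ν (t • y) * coeff (L s) (t • y) * (ν (s • t • y))⁻¹ * s) * t := by
      rw [hmv, mul_smul]; group
    rw [e]
    set a := ν y * coeff (L t) y * (ν (t • y))⁻¹
    set b := ν (t • y) * coeff (L s) (t • y) * (ν (s • t • y))⁻¹ * s
    rw [map_mul π _ t, map_mul π a b, map_mul π a t, mul_assoc (π a) (π b) (π t),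
      ← hcomm (hπK b (hgrade s (t • y))) (π t), mul_assoc (π a)]
  have hbij : ∀ t : S, Function.Bijective fun y : Orb S (RightSet m) => t • y :=
    fun t => MulAction.bijective t
  let f : S →* Z :=
    { toFun := fun s => ∏ y, ζ s y
      map_one' := Finset.prod_eq_one fun y _ => by
        refine Subtype.ext ?_
        show π _ = 1
        rw [one_smul, map_one L, (move_one hfree y).2, mul_one, mul_one, mul_inv_cancel, map_one]
      map_mul' := fun s t => by
        rw [Finset.prod_congr rfl fun y _ => hζ s t y, Finset.prod_mul_distrib,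
          Fintype.prod_bijective _ (hbij t) (fun y => ζ s (t • y)) (ζ s) fun _ => rfl, mul_comm] }
  let πK : K →* Z := (π.comp K.subtype).codRestrict Z fun k => hπK _ k.2
  set n := Nat.card (Orb S (RightSet m)) with hn'
  -- on `K` it is the `n`-th power of the projection
  let G₀ : Subgroup K :=
    { carrier := {k | f k = πK k ^ n}
      one_mem' := by simp
      mul_mem' := fun {a b} (ha : f a = _) (hb : f b = _) => by
        show f ((a * b : K) : S) = πK (a * b) ^ n
        rw [Subgroup.coe_mul, map_mul, ha, hb, map_mul, mul_pow]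
      inv_mem' := fun {a} (ha : f a = _) => by
        show f ((a⁻¹ : K) : S) = πK a⁻¹ ^ n
        rw [Subgroup.coe_inv, map_inv, ha, map_inv, inv_pow] }
  have hψK : ∀ (u : K) y, π (ν y * coeff (L u) y * (ν ((u : S) • y))⁻¹) ∈ Z := fun u y => by
    have h := Z.mul_mem (hπK _ (hgrade u y)) (Z.inv_mem (hπK _ u.2))
    rwa [← map_inv, ← map_mul, mul_inv_cancel_right] at h
  let ψ : K → Z := fun u => ∏ y, (⟨_, hψK u y⟩ : Z)
  have hfψ : ∀ u : K, f u = ψ u * πK u ^ n := by
    intro u
    show ∏ y, ζ u y = _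
    rw [hn', Nat.card_eq_fintype_card, ← Finset.card_univ, ← Finset.prod_const,
      ← Finset.prod_mul_distrib]
    refine Finset.prod_congr rfl fun y _ => Subtype.ext ?_
    exact map_mul π (ν y * coeff (L u) y * (ν ((u : S) • y))⁻¹) (u : S)
  -- invariance
  obtain ⟨E, hEs, hEp⟩ := exists_pPowerIndex hS hF (CfsgLib.FusionSub.hyperfocal_le F p) le_rfl
  have hEh := CfsgLib.FusionSub.hyperfocal_eq_of_pPowerIndex hS hEp
  have hKle : ∀ {x : Ω}, x ∈ F.hyperfocalSubgroup p → ∃ h : x ∈ S, (⟨x, h⟩ : S) ∈ K := fun hx =>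
    ⟨CfsgLib.FusionSub.hyperfocal_le F p hx, by rw [hK]; exact hx⟩
  let G₁ : Subgroup Ω := (G₀.map K.subtype).map S.subtype
  have hgen : F.hyperfocalSubgroup p ≤ G₁ := by
    rw [← hEh]
    refine (Subgroup.closure_le _).mpr ?_
    rintro _ ⟨P, α, x, hP, -, rfl⟩
    have hPS : P ≤ S := hP.trans (CfsgLib.FusionSub.hyperfocal_le F p)
    have hφ : P.subtype.comp (α : MulAut P).toMonoidHom ∈ F.Hom P :=
      hEp.1 P ((mem_autGroup_iff E hP).mp α.2)
    obtain ⟨g, hg⟩ := exists_conj_leftHom (isCentral_bot F) hm hφ bot_le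
    obtain ⟨hxS, hxK⟩ := hKle (hP x.2)
    obtain ⟨hαS, hαK⟩ := hKle (hP ((α : MulAut P) x).2)
    set x₁ : S := ⟨x, hxS⟩ with hx₁
    set x₂ : S := ⟨((α : MulAut P) x : P), hαS⟩ with hx₂
    have hgx : g * L x₁ = L x₂ * g := by
      rw [show L x₂ = g * L x₁ * g⁻¹ from hg x, inv_mul_cancel_right]
    let w : Orb S (RightSet m) → S ⧸ M := fun y => π (ν y * coeff g y * (ν (orbMove g y))⁻¹)
    have hmove : ∀ y, x₂ • orbMove g y = orbMove g (x₁ • y) := fun y => by
      rw [hsmul, hsmul, ← (move_mul hfree _ _ _).1, ← (move_mul hfree _ _ _).1, hgx]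
    let e : Orb S (RightSet m) → S ⧸ M := fun y => (w y)⁻¹ * w (x₁ • y)
    have hrel : ∀ y, π (ν (orbMove g y) * coeff (L x₂) (orbMove g y) *
        (ν (x₂ • orbMove g y))⁻¹) = π (ν y * coeff (L x₁) y * (ν (x₁ • y))⁻¹) * e y := by
      intro y
      have h1 : coeff (L x₁) y * coeff g (x₁ • y) = coeff g y * coeff (L x₂) (orbMove g y) := by
        rw [hsmul, ← (move_mul hfree _ _ _).2, ← (move_mul hfree _ _ _).2, hgx]
      have h2 : π (ν y * coeff (L x₁) y * (ν (x₁ • y))⁻¹) * w (x₁ • y) =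
          w y * π (ν (orbMove g y) * coeff (L x₂) (orbMove g y) *
            (ν (x₂ • orbMove g y))⁻¹) := by
        simp only [w]
        rw [← map_mul, ← map_mul, hmove]
        congr 1
        calc ν y * coeff (L x₁) y * (ν (x₁ • y))⁻¹ *
              (ν (x₁ • y) * coeff g (x₁ • y) * (ν (orbMove g (x₁ • y)))⁻¹)
            = ν y * (coeff (L x₁) y * coeff g (x₁ • y)) * (ν (orbMove g (x₁ • y)))⁻¹ := by group
          _ = _ := by rw [h1]; group
      simp only [e]
      rw [← mul_assoc, ← hcomm (show π (ν y * coeff (L x₁) y * (ν (x₁ • y))⁻¹) ∈ Z from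
        hψK ⟨x₁, hxK⟩ y) (w y)⁻¹, mul_assoc (w y)⁻¹, h2, inv_mul_cancel_left]
    have heZ : ∀ y, e y ∈ Z := fun y => by
      have h := Z.mul_mem (Z.inv_mem (hψK ⟨x₁, hxK⟩ y)) (hψK ⟨x₂, hαK⟩ (orbMove g y))
      rwa [hrel y, inv_mul_cancel_left] at h
    let q := QuotientGroup.mk' Z
    have hqw : ∀ y, q (w (x₁ • y)) = q (w y) := fun y => by
      have h := (QuotientGroup.eq_one_iff _).mpr (heZ y)
      change q ((w y)⁻¹ * w (x₁ • y)) = 1 at h
      rw [map_mul, map_inv, inv_mul_eq_one] at h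
      exact h.symm
    let a : Orb S (RightSet m) → Z := fun y => ⟨(q (w y)).out⁻¹ * w y,
      QuotientGroup.eq.mp (QuotientGroup.out_eq' (q (w y)))⟩
    have hea : ∀ y, (⟨e y, heZ y⟩ : Z) = (a y)⁻¹ * a (x₁ • y) := fun y => Subtype.ext (by
      show (w y)⁻¹ * w (x₁ • y) = ((q (w y)).out⁻¹ * w y)⁻¹ * ((q (w (x₁ • y))).out⁻¹ * w (x₁ • y))
      rw [hqw]
      group)
    have hinv : ψ ⟨x₂, hαK⟩ = ψ ⟨x₁, hxK⟩ := by
      simp only [ψ]
      rw [← Fintype.prod_bijective _ (orbMove_bijective hfree g)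
        (fun y => (⟨_, hψK ⟨x₂, hαK⟩ (orbMove g y)⟩ : Z)) _ fun _ => rfl,
        Finset.prod_congr rfl fun y _ => show (⟨_, hψK ⟨x₂, hαK⟩ (orbMove g y)⟩ : Z) =
          ⟨_, hψK ⟨x₁, hxK⟩ y⟩ * ⟨e y, heZ y⟩ from Subtype.ext (hrel y),
        Finset.prod_mul_distrib, Finset.prod_congr rfl fun y _ => hea y, Finset.prod_mul_distrib,
        Fintype.prod_bijective _ (hbij x₁) (fun y => a (x₁ • y)) a fun _ => rfl,
        Finset.prod_inv_distrib, inv_mul_cancel, mul_one]
    refine ⟨x₁⁻¹ * x₂, ⟨⟨x₁⁻¹ * x₂, mul_mem (Subgroup.inv_mem _ hxK) hαK⟩, ?_, rfl⟩, rfl⟩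
    show f (x₁⁻¹ * x₂) = πK ((⟨x₁, hxK⟩ : K)⁻¹ * ⟨x₂, hαK⟩) ^ n
    rw [map_mul, map_inv, map_mul, map_inv, hfψ ⟨x₁, hxK⟩, hfψ ⟨x₂, hαK⟩, hinv, mul_inv, mul_pow,
      inv_pow]
    exact (mul_mul_mul_comm _ _ _ _).trans (by rw [inv_mul_cancel, one_mul])
  have hK1 : ∀ k : K, f k = πK k ^ n := by
    intro k
    have hk : ((k : S) : Ω) ∈ F.hyperfocalSubgroup p := Subgroup.mem_subgroupOf.mp (hK.le k.2)
    obtain ⟨s, ⟨k', hk', rfl⟩, hs⟩ := hgen hk
    obtain rfl : k' = k := Subtype.ext (Subtype.ext hs)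
    exact hk'
  refine ⟨f, fun u hu huK => ?_, ?_⟩
  · refine (hK1 ⟨u, huK⟩).trans ?_
    rw [show πK ⟨u, huK⟩ = 1 from Subtype.ext ((QuotientGroup.eq_one_iff u).mpr hu), one_pow]
  · have hZne : Z ≠ ⊥ := fun h => by
      rw [Subgroup.eq_bot_iff_card, hcard] at h
      exact (Fact.out : p.Prime).ne_one h
    obtain ⟨z, hz, hz1⟩ := (Subgroup.bot_or_exists_ne_one Z).resolve_left hZne
    obtain ⟨u, hu, rfl⟩ := hz
    refine ⟨u, hu, fun h => hz1 ?_⟩
    have hcop : (Nat.card Z).Coprime n := by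
      rw [hcard]
      exact (Fact.out : p.Prime).coprime_iff_not_dvd.mpr hn
    have h2 := (hK1 ⟨u, hu⟩).symm.trans h
    exact congrArg Subtype.val ((powCoprime hcop).injective (h2.trans (one_pow _).symm))

theorem hyperfocal_mono {H : FusionSystem S} (hHF : H.IsSubsystemOf F) :
    H.hyperfocalSubgroup p ≤ F.hyperfocalSubgroup p := by
  refine (Subgroup.closure_le _).mpr ?_
  rintro _ ⟨P, α, x, hP, hα, rfl⟩
  exact CfsgLib.FusionSub.mem_hyperfocal F hP
    (CfsgLib.FusionSub.map_pResidual_mono hHF p P ⟨α, hα, rfl⟩) x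

/-- Tate's theorem: equal elementary focal subgroups force equal hyperfocal subgroups. -/
theorem hyperfocal_eq_of_frattini_sup_focal (hS : IsPGroup p S) (hF : F.IsSaturated p)
    {H : FusionSystem S} (hH : H.IsSaturated p) (hHF : H.IsSubsystemOf F)
    (h : F.focalSubgroup ≤ (frattini S).map S.subtype ⊔ H.focalSubgroup) :
    F.hyperfocalSubgroup p = H.hyperfocalSubgroup p := by
  set K := (F.hyperfocalSubgroup p).subgroupOf S with hK
  set H₀ := (H.hyperfocalSubgroup p).subgroupOf S with hH₀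
  have hle := hyperfocal_mono (p := p) hHF
  refine le_antisymm ?_ hle
  by_contra hne
  haveI hKn : K.Normal := ⟨fun k hk g => Subgroup.mem_subgroupOf.mpr
    (CfsgLib.FusionExamples.hyperfocal_conj_mem g.2 (Subgroup.mem_subgroupOf.mp hk))⟩
  haveI hH₀n : H₀.Normal := ⟨fun k hk g => Subgroup.mem_subgroupOf.mpr
    (CfsgLib.FusionExamples.hyperfocal_conj_mem g.2 (Subgroup.mem_subgroupOf.mp hk))⟩
  have hH₀K : H₀ < K := by
    refine lt_of_le_of_ne (fun x hx => hle hx) fun e => hne fun x hx => ?_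
    have : (⟨x, CfsgLib.FusionSub.hyperfocal_le F p hx⟩ : S) ∈ H₀ := e.ge hx
    exact this
  -- a maximal normal subgroup below `K`
  obtain ⟨M, ⟨hMn, hH₀M, hMK⟩, hMmax⟩ := Set.Finite.exists_maximal
    (s := {M : Subgroup S | M.Normal ∧ H₀ ≤ M ∧ M < K}) (Set.toFinite _) ⟨H₀, hH₀n, le_rfl, hH₀K⟩
  haveI := hMn
  set π := QuotientGroup.mk' M with hπ
  haveI : Group.IsNilpotent (S ⧸ M) := (hS.to_quotient M).isNilpotent
  haveI hZn : (K.map π).Normal := Subgroup.Normal.map hKn π (QuotientGroup.mk'_surjective M)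
  have hne' : K.map π ≠ ⊥ := fun e => hMK.not_ge fun x hx =>
    (QuotientGroup.eq_one_iff x).mp (e.le (Subgroup.mem_map_of_mem π hx) : π x ∈ (⊥ : Subgroup _))
  have hI : K.map π ⊓ Subgroup.center (S ⧸ M) ≠ ⊥ := CfsgLib.PSolvable.inf_center_ne_bot hne'
  haveI : Nontrivial ↥(K.map π ⊓ Subgroup.center (S ⧸ M)) :=
    (Subgroup.nontrivial_iff_ne_bot _).mpr hI
  have hIp : IsPGroup p ↥(K.map π ⊓ Subgroup.center (S ⧸ M)) := (hS.to_quotient M).to_subgroup _
  obtain ⟨k, hk, hkc⟩ := hIp.nontrivial_iff_card.mp inferInstance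
  obtain ⟨z, hz⟩ := exists_prime_orderOf_dvd_card' (G := ↥(K.map π ⊓ Subgroup.center (S ⧸ M))) p
    (hkc ▸ dvd_pow_self p (Nat.pos_iff_ne_zero.mp hk))
  set C := Subgroup.zpowers ((z : S ⧸ M)) with hC
  have hCcard : Nat.card C = p := by rw [hC, Nat.card_zpowers, Subgroup.orderOf_coe, hz]
  have hCle : C ≤ K.map π ⊓ Subgroup.center (S ⧸ M) := (Subgroup.zpowers_le).mpr z.2
  haveI : C.Normal := ⟨fun c hc g => by
    rwa [Subgroup.mem_center_iff.mp (hCle hc).2 g, mul_inv_cancel_right]⟩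
  have hCK : C = K.map π := by
    have hle' : C.comap π ≤ K := by
      intro x hx
      obtain ⟨k', hk', he⟩ := (hCle hx).1
      have hm : k'⁻¹ * x ∈ M := QuotientGroup.eq.mp he
      simpa using K.mul_mem hk' (hMK.le hm)
    rcases hle'.eq_or_lt with e | e
    · rw [← e, Subgroup.map_comap_eq_self_of_surjective (QuotientGroup.mk'_surjective M)]
    · exfalso
      have h2 : C.comap π ≤ M := hMmax ⟨Subgroup.Normal.comap inferInstance π,
        hH₀M.trans (QuotientGroup.le_comap_mk' M C), e⟩ (QuotientGroup.le_comap_mk' M C)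
      obtain ⟨x, hx⟩ := QuotientGroup.mk'_surjective M (z : S ⧸ M)
      have h3 : π x = 1 := (QuotientGroup.eq_one_iff x).mpr
        (h2 (show π x ∈ C by rw [hπ, hx]; exact Subgroup.mem_zpowers _))
      rw [hπ, hx] at h3
      rw [OneMemClass.coe_eq_one] at h3
      rw [h3, orderOf_one] at hz
      exact (Fact.out : p.Prime).ne_one hz.symm
  obtain ⟨f, hfM, u, hu, hfu⟩ := exists_extension_hom hS hF hK hKn (hCK ▸ hCcard)
    (hCK ▸ hCle.trans inf_le_right)
  have hZp : Nat.card (K.map π) = p := hCK ▸ hCcard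
  haveI : IsCyclic (K.map π) := isCyclic_of_prime_card hZp
  letI : CommGroup (K.map π) := IsCyclic.commGroup
  have hker : f.ker.index = p := by
    rw [Subgroup.index_ker, ← hZp]
    have hle2 : Nat.card f.range ∣ p := hZp ▸ Subgroup.card_subgroup_dvd_card f.range
    rcases (Nat.dvd_prime (Fact.out : p.Prime)).mp hle2 with h1 | h1
    · exact absurd (Subgroup.card_eq_one.mp h1 ▸ (⟨u, rfl⟩ : f u ∈ f.range) : f u ∈ (⊥ : Subgroup _)) hfu
    · rw [h1, hZp]
  have hcoatom : IsCoatom f.ker := by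
    refine ⟨fun e => ?_, fun L hL => ?_⟩
    · rw [e, Subgroup.index_top] at hker
      exact (Fact.out : p.Prime).ne_one hker.symm
    · have hd : L.index ∣ p := hker ▸ Subgroup.index_dvd_of_le hL.le
      rcases (Nat.dvd_prime (Fact.out : p.Prime)).mp hd with h1 | h1
      · exact Subgroup.index_eq_one.mp h1
      · exfalso
        have h2 := Subgroup.relIndex_mul_index hL.le
        rw [h1, hker] at h2
        refine hL.not_ge (Subgroup.relIndex_eq_one.mp ?_)
        exact Nat.eq_of_mul_eq_mul_right (Fact.out : p.Prime).pos (h2.trans (one_mul p).symm)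
  have hfoc : H.focalSubgroup ≤ f.ker.map S.subtype := by
    rw [focal_eq_hyperfocal_sup hS hH]
    refine sup_le (fun x hx => ?_) ?_
    · refine ⟨⟨x, CfsgLib.FusionSub.hyperfocal_le H p hx⟩, ?_, rfl⟩
      exact hfM _ (hH₀M hx) (hle hx)
    · have h4 := Subgroup.map_commutator (⊤ : Subgroup S) ⊤ S.subtype
      rw [← MonoidHom.range_eq_map, Subgroup.range_subtype] at h4
      rw [← h4]
      exact Subgroup.map_mono (Abelianization.commutator_subset_ker f)
  have hu' : (u : Ω) ∈ F.focalSubgroup := by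
    rw [focal_eq_hyperfocal_sup hS hF]
    exact Subgroup.mem_sup_left (Subgroup.mem_subgroupOf.mp hu)
  obtain ⟨s, hs, hsu⟩ := (h.trans (sup_le (Subgroup.map_mono (frattini_le_coatom hcoatom)) hfoc)) hu'
  exact hfu (MonoidHom.mem_ker.mp ((Subtype.ext hsu : s = u) ▸ hs))

end CfsgLib.FusionBasics.PPower
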