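import Cfsg.Agent.Lib.FusionBasics.PPower.Transfer
import Cfsg.Agent.Lib.FusionExamples.SaturatedBiset
import Mathlib.GroupTheory.SpecificGroups.Cyclic

/-!
A saturated system with a subgroup `T` of index `p` containing the focal subgroup: a finite group
realizing the maps of the system, with a homomorphism onto a group of order `p` killing exactly `T`
on `S`, and trivial on centralizers of subgroups all of whose conjugates have centralizer in `T`.
-/

set_option autoImplicit false
set_option linter.style.haveILetI false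

namespace CfsgLib.FusionBasics.PPower

open Cfsg Cfsg.FusionSystem CfsgLib.Alperin CfsgLib.FusionExamples CfsgLib.FusionExamples.Biset
  CfsgLib.FusionExamples.Monomial CfsgLib.FusionExamples.Marks

universe u

variable {Ω : Type u} [Group Ω] {S : Subgroup Ω}

/-- The data used to cut out the subsystem. -/
structure TauData (F : FusionSystem S) (T : Subgroup Ω) {H A : Type*} [Group H] [CommGroup A]
    (L : S →* H) (τ : H →* A) : Prop where
  realize : ∀ {P : Subgroup Ω} {φ : P →* Ω} (hφ : φ ∈ F.Hom P),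
    ∃ g : H, ∀ u : P, L ⟨φ u, apply_mem hφ u⟩ = g * L ⟨u, dom_le hφ u.2⟩ * g⁻¹
  ker : ∀ s : S, τ (L s) = 1 ↔ (s : Ω) ∈ T
  surj : ∀ a : A, ∃ s : S, τ (L s) = a
  cent : ∀ {P : Subgroup Ω} (hP : P ≤ S),
    (∀ Q, F.IsConj P Q → centralizerIn S Q ≤ T) →
    ∀ c : H, (∀ u : P, c * L ⟨u, hP u.2⟩ = L ⟨u, hP u.2⟩ * c) → τ c = 1

variable {p : ℕ} [Fact p.Prime] [Finite S]

theorem focal_mem {F : FusionSystem S} {P : Subgroup Ω} {φ : P →* Ω} (hφ : φ ∈ F.Hom P) (x : P) :
    (x : Ω)⁻¹ * φ x ∈ F.focalSubgroup :=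
  Subgroup.subset_closure ⟨P, φ, x, hφ, rfl⟩

theorem normal_of_focal_le (F : FusionSystem S) {T : Subgroup Ω} (hTS : T ≤ S)
    (hfoc : F.focalSubgroup ≤ T) : (T.subgroupOf S).Normal := by
  refine ⟨fun t ht g => ?_⟩
  have h := hfoc (focal_mem (F.conj_mem le_rfl g.2) t)
  rw [conjHom_apply] at h
  have h2 := T.mul_mem (Subgroup.mem_subgroupOf.mp ht) h
  rw [mul_inv_cancel_left] at h2
  exact h2

theorem exists_tauData (hS : IsPGroup p S) {F : FusionSystem S} (hF : F.IsSaturated p)
    {T : Subgroup Ω} (hTS : T ≤ S) (hfoc : F.focalSubgroup ≤ T)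
    (hidx : (T.subgroupOf S).index = p) :
    ∃ (H : Type u) (_ : Group H) (_ : Finite H) (A : Type u) (_ : CommGroup A)
      (L : S →* H) (τ : H →* A), Nat.card A = p ∧ TauData F T L τ := by
  classical
  haveI := normal_of_focal_le F hTS hfoc
  set K := T.subgroupOf S with hK
  have hcardA : Nat.card (S ⧸ K) = p := by rw [← Subgroup.index_eq_card, hidx]
  haveI : IsCyclic (S ⧸ K) := isCyclic_of_prime_card hcardA
  letI : CommGroup (S ⧸ K) := IsCyclic.commGroup
  let θ : S →* S ⧸ K := QuotientGroup.mk' K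
  have hθ : ∀ s : S, θ s = 1 ↔ (s : Ω) ∈ T := fun s =>
    (QuotientGroup.eq_one_iff s).trans Subgroup.mem_subgroupOf
  have hZ : F.IsCentral ⊥ := isCentral_bot F
  obtain ⟨m, hm, d, hd, hcard⟩ := exists_stable_saturated hS hF hZ
  have hfree : ∀ (b : S) (x : RightSet m), b • x = x → b = 1 := by
    intro b x hb
    have h1 : ((1 : S), b) ∈ MulAction.stabilizer (↥S × ↥S) (show MSet m from x) := hb
    exact congrArg Prod.snd
      ((stabilizer_mem hZ hm.1 (show MSet m from x)).2.fst_injective h1 (one_mem _) rfl)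
  haveI : Finite (Orb S (RightSet m)) := Quotient.finite _
  letI := Fintype.ofFinite (Orb S (RightSet m))
  -- the number of orbits
  have hn : ¬ p ∣ Nat.card (Orb S (RightSet m)) := by
    have h : Nat.card (RightSet m) = Nat.card (Orb S (RightSet m)) * Nat.card S := by
      rw [← Nat.card_prod]
      exact Nat.card_congr
        { toFun := fun x => (orb x, co x)
          invFun := fun q => q.2 • sec q.1
          left_inv := fun x => co_spec x
          right_inv := fun q => by
            obtain ⟨h1, h2⟩ := eq_of_smul_sec hfree (x := q.2 • sec q.1) rfl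
            exact Prod.ext h1 h2 }
    rwa [Nat.eq_of_mul_eq_mul_right Nat.card_pos (h.symm.trans hcard)]
  let L := leftHom m
  -- the graph attached to a fixed orbit
  have hgraph : ∀ y : Orb S (RightSet m), ∃ (D : Subgroup Ω) (χ : D →* Ω), χ ∈ F.Hom D ∧
      ∀ u : S, orbMove (L u) y = y → ∃ hu : (u : Ω) ∈ D,
        χ ⟨u, hu⟩ = ((coeff (L u) y : S) : Ω)⁻¹ := by
    intro y
    obtain ⟨χ, hχ, hχx⟩ := (stabilizer_mem hZ hm.1 (show MSet m from (sec y : RightSet m))).2
    refine ⟨_, χ, hχ, fun u hu => ?_⟩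
    have h1 := apply_sec (L u) y
    rw [hu] at h1
    have hstab : ((u, (coeff (L u) y)⁻¹) : ↥S × ↥S) ∈
        MulAction.stabilizer (↥S × ↥S) (show MSet m from (sec y : RightSet m)) := by
      rw [MulAction.mem_stabilizer_iff,
        show ((u, (coeff (L u) y)⁻¹) : ↥S × ↥S) =
          ((1 : S), (coeff (L u) y)⁻¹) * ((u, 1) : ↥S × ↥S) from
            Prod.ext (one_mul _).symm (mul_one _).symm, mul_smul]
      show (coeff (L u) y)⁻¹ • ((L u : Equiv.Perm (RightSet m)) (sec y) : RightSet m) = (sec y : RightSet m)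
      rw [h1, inv_smul_smul]
    exact ⟨fst_mem hstab, hχx _ hstab⟩
  let θ' : S →* S ⧸ K := θ⁻¹
  have hθ' : ∀ u, θ' u = (θ u)⁻¹ := fun _ => rfl
  have hstab : ∀ (u : S) (y : Orb S (RightSet m)), orbMove (L u) y = y →
      θ (coeff (L u) y) = θ' u := by
    intro u y hu
    obtain ⟨D, χ, hχ, hχu⟩ := hgraph y
    obtain ⟨hD, he⟩ := hχu u hu
    have h := hfoc (focal_mem hχ ⟨u, hD⟩)
    rw [he] at h
    have h2 : θ (u⁻¹ * (coeff (L u) y)⁻¹) = 1 := (hθ _).mpr h
    rw [map_mul, map_inv, map_inv] at h2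
    rw [hθ', ← inv_inj (a := θ (coeff (L u) y)), inv_inv]
    exact eq_inv_of_mul_eq_one_right h2 |>.trans (inv_inv _)
  refine ⟨↥(commPerm S (RightSet m)), inferInstance, inferInstance, S ⧸ K, inferInstance, L,
    transfer hfree θ, hcardA, ?_⟩
  have htau : ∀ s, transfer hfree θ (L s) = (θ s)⁻¹ ^ Nat.card (Orb S (RightSet m)) := fun s => by
    rw [transfer_of_stab hfree θ L θ' hstab s, hθ']
  have hcop : (Nat.card (S ⧸ K)).Coprime (Nat.card (Orb S (RightSet m))) := by
    rw [hcardA]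
    exact ((Fact.out : p.Prime).coprime_iff_not_dvd).mpr hn
  refine ⟨fun {P φ} hφ => exists_conj_leftHom hZ hm hφ bot_le, fun s => ?_, fun a => ?_, ?_⟩
  · rw [htau, ← hθ, ← inv_eq_one (a := θ s)]
    refine ⟨fun h => ?_, fun h => by rw [h, one_pow]⟩
    exact (powCoprime hcop).injective (h.trans (one_pow _).symm)
  · obtain ⟨b, rfl⟩ := (powCoprime hcop).surjective a
    obtain ⟨s, hs⟩ := QuotientGroup.mk'_surjective K b⁻¹
    exact ⟨s, by rw [htau, show θ s = b⁻¹ from hs, inv_inv]; rfl⟩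
  intro P hP hC c hc
  let π : P →* ↥(commPerm S (RightSet m)) := L.comp (Subgroup.inclusion hP)
  -- representatives of conjugacy classes of functions
  let r : (P → S) → (P → S) → Prop := fun f f' => ∃ t : S, ∀ u, f' u = t⁻¹ * f u * t
  have hrefl : ∀ f, r f f := fun f => ⟨1, fun u => by simp⟩
  have hsymm : ∀ {f f'}, r f f' → r f' f := by
    rintro f f' ⟨t, ht⟩
    exact ⟨t⁻¹, fun u => by rw [ht]; group⟩
  have htrans : ∀ {f f' f''}, r f f' → r f' f'' → r f f'' := by
    rintro f f' f'' ⟨t, ht⟩ ⟨t', ht'⟩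
    exact ⟨t * t', fun u => by rw [ht', ht]; group⟩
  letI rs : Setoid (P → S) := ⟨r, hrefl, hsymm, htrans⟩
  let rep : (P → S) → (P → S) := fun f => (Quotient.mk rs f).out
  have hrep : ∀ f, r (rep f) f := fun f => Quotient.exact (Quotient.out_eq (Quotient.mk rs f))
  choose t ht using hrep
  let fy : Orb S (RightSet m) → (P → S) := fun y u => coeff (π u) y
  refine transfer_eq_one hfree θ (p := p) (fun a => ?_) (isPGroup_of_le hS hP) π
    (θ'.comp (Subgroup.inclusion hP)) (fun u y => hstab _ y) (c := c) hc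
    (fun y => θ (t (fy y))) fun y hy => ?_
  · rw [← hcardA]
    exact pow_card_eq_one'
  set y' := orbMove c y with hy'
  set b := coeff c y with hb
  have hyfix : ∀ u, orbMove (π u) y' = y' := fun u => by
    have h : c * π u = π u * c := hc u
    rw [hy', ← (move_mul hfree _ _ _).1, ← h, (move_mul hfree _ _ _).1, hy]
  have hconj : ∀ u, fy y' u = b⁻¹ * fy y u * b := fun u => by
    have h1 := (move_mul hfree (π u) c y).2
    have h2 := (move_mul hfree c (π u) y).2
    rw [hy u] at h2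
    rw [show π u * c = c * π u from (hc u).symm, h2] at h1
    show coeff (π u) y' = b⁻¹ * coeff (π u) y * b
    rw [mul_assoc, hb, h1, inv_mul_cancel_left]
  have hsame : rep (fy y') = rep (fy y) :=
    congrArg Quotient.out (Quotient.sound (hsymm ⟨b, hconj⟩) :
      Quotient.mk rs (fy y') = Quotient.mk rs (fy y))
  set z := (t (fy y) * b)⁻¹ * t (fy y') with hz
  have hzc : ∀ u, z * fy y' u = fy y' u * z := by
    intro u
    have h1 := hconj u
    rw [ht (fy y) u] at h1
    have h2 : rep (fy y) u = t (fy y') * fy y' u * (t (fy y'))⁻¹ := by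
      rw [ht (fy y') u, hsame]; group
    have h3 : fy y' u = z * fy y' u * z⁻¹ := by
      conv_lhs => rw [h1, h2]
      rw [hz]
      group
    conv_rhs => rw [h3, inv_mul_cancel_right]
  obtain ⟨D, χ, hχ, hχu⟩ := hgraph y'
  have hPD : P ≤ D := fun x hx => (hχu ⟨x, hP hx⟩ (hyfix ⟨x, hx⟩)).1
  have hzT : (z : Ω) ∈ T := by
    refine hC _ ⟨_, restrict_mem hχ hPD, rfl⟩ ⟨z.2, ?_⟩
    rintro _ ⟨x, rfl⟩
    obtain ⟨hu', he⟩ := hχu (Subgroup.inclusion hP x) (hyfix x)
    have hx : χ.comp (Subgroup.inclusion hPD) x = ((fy y' x : S) : Ω)⁻¹ := he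
    rw [hx]
    have h4 : Commute (z : Ω) ((fy y' x : S) : Ω) := congrArg Subtype.val (hzc x)
    exact h4.inv_right.eq.symm
  have h5 := (hθ z).mpr hzT
  rw [hz, map_mul, map_inv, inv_mul_eq_one, map_mul] at h5
  rw [← h5, mul_div_cancel_left]

end CfsgLib.FusionBasics.PPower
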