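import Cfsg.Agent.Lib.FusionExamples.Monomial
import Mathlib.GroupTheory.PGroup
import Mathlib.Tactic.Abel

/-!
The transfer attached to a free action, written with cocycles, and its value on permutations
commuting with a `p`-group.
-/

set_option autoImplicit false
set_option linter.style.haveILetI false

namespace CfsgLib.FusionBasics.PPower

open CfsgLib.FusionExamples.Monomial

variable {B X : Type*} [Group B] [MulAction B X]

/-- The orbit space. -/
abbrev Orb (B X : Type*) [Group B] [MulAction B X] : Type _ :=
  Quotient (MulAction.orbitRel B X)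

/-- The orbit of a point. -/
def orb (x : X) : Orb B X := Quotient.mk (MulAction.orbitRel B X) x

/-- A chosen point of an orbit. -/
noncomputable def sec (y : Orb B X) : X := Quotient.out y

theorem orb_sec (y : Orb B X) : orb (sec y) = y := Quotient.out_eq y

theorem orb_smul (b : B) (x : X) : (orb (b • x) : Orb B X) = orb x :=
  Quotient.sound (MulAction.orbitRel_apply.mpr (MulAction.mem_orbit x b))

theorem exists_co (x : X) : ∃ b : B, b • sec (orb x : Orb B X) = x := by
  obtain ⟨b, hb⟩ := MulAction.orbitRel_apply.mp (Quotient.exact (orb_sec (orb x : Orb B X)))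
  exact ⟨b⁻¹, by rw [← show b • x = sec (orb x : Orb B X) from hb, inv_smul_smul]⟩

/-- The coefficient of a point with respect to the chosen point of its orbit. -/
noncomputable def co (x : X) : B := (exists_co (B := B) x).choose

theorem co_spec (x : X) : (co x : B) • sec (orb x : Orb B X) = x := (exists_co x).choose_spec

/-- The point moved by a commuting permutation, as an orbit. -/
noncomputable def orbMove (f : ↥(commPerm B X)) (y : Orb B X) : Orb B X :=
  orb ((f : Equiv.Perm X) (sec y))

/-- The coefficient of a commuting permutation at an orbit. -/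
noncomputable def coeff (f : ↥(commPerm B X)) (y : Orb B X) : B :=
  co ((f : Equiv.Perm X) (sec y))

theorem apply_sec (f : ↥(commPerm B X)) (y : Orb B X) :
    (f : Equiv.Perm X) (sec y) = coeff f y • sec (orbMove f y) := (co_spec _).symm

variable (hfree : ∀ (b : B) (x : X), b • x = x → b = 1)
include hfree

theorem eq_of_smul_sec {x : X} {b : B} {y : Orb B X} (h : b • sec y = x) :
    orb x = y ∧ co x = b := by
  have h1 : orb x = y := by rw [← h, orb_smul, orb_sec]
  refine ⟨h1, ?_⟩
  have h2 : (co x : B) • sec y = b • sec y := by rw [h, ← h1, co_spec]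
  have h3 := hfree (b⁻¹ * co x) (sec y) (by rw [mul_smul, h2, inv_smul_smul])
  exact (inv_mul_eq_one.mp h3).symm

theorem move_mul (f k : ↥(commPerm B X)) (y : Orb B X) :
    orbMove (f * k) y = orbMove f (orbMove k y) ∧
      coeff (f * k) y = coeff k y * coeff f (orbMove k y) := by
  refine eq_of_smul_sec hfree ?_
  show _ = (f : Equiv.Perm X) ((k : Equiv.Perm X) (sec y))
  rw [apply_sec k, mem_commPerm_iff.mp f.2, apply_sec f, mul_smul]

theorem move_one (y : Orb B X) : orbMove (1 : ↥(commPerm B X)) y = y ∧
    coeff (1 : ↥(commPerm B X)) y = 1 :=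
  eq_of_smul_sec hfree (one_smul B _)

/-- The commuting permutations act on the orbit space. -/
@[reducible] noncomputable def orbAction : MulAction ↥(commPerm B X) (Orb B X) where
  smul := orbMove
  one_smul y := (move_one hfree y).1
  mul_smul f k y := (move_mul hfree f k y).1

theorem orbMove_bijective (f : ↥(commPerm B X)) :
    Function.Bijective (orbMove f : Orb B X → Orb B X) := by
  letI := orbAction hfree
  exact MulAction.bijective f

variable [Fintype (Orb B X)] {A : Type*} [CommGroup A] (θ : B →* A)

/-- The transfer. -/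
noncomputable def transfer : ↥(commPerm B X) →* A where
  toFun f := ∏ y, θ (coeff f y)
  map_one' := Finset.prod_eq_one fun y _ => by rw [(move_one hfree y).2, map_one]
  map_mul' f k := by
    rw [Finset.prod_congr rfl fun y _ => by rw [(move_mul hfree f k y).2, map_mul],
      Finset.prod_mul_distrib,
      Fintype.prod_bijective _ (orbMove_bijective hfree k) (fun y => θ (coeff f (orbMove k y)))
        (fun y => θ (coeff f y)) fun _ => rfl, mul_comm]

/-- The coefficients of a group whose stabilizers have prescribed values are a coboundary. -/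
theorem exists_norm {Γ : Type*} [Group Γ] (π : Γ →* ↥(commPerm B X)) (θ' : Γ →* A)
    (hstab : ∀ u y, orbMove (π u) y = y → θ (coeff (π u) y) = θ' u)
    (Λ : Orb B X → A) :
    ∃ ν : Orb B X → A, (∀ u y, θ (coeff (π u) y) = θ' u * (ν (orbMove (π u) y) / ν y)) ∧
      ∀ y, (∀ u, orbMove (π u) y = y) → ν y = Λ y := by
  classical
  letI := orbAction hfree
  letI actΓ : MulAction Γ (Orb B X) := MulAction.compHom _ π
  have hsmul : ∀ (u : Γ) (y : Orb B X), u • y = orbMove (π u) y := fun _ _ => rfl
  let base : Orb B X → Orb B X := fun y => (Quotient.mk (MulAction.orbitRel Γ (Orb B X)) y).out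
  have hbase : ∀ y, ∃ v : Γ, v • base y = y := fun y => by
    obtain ⟨v, hv⟩ := MulAction.orbitRel_apply.mp
      (Quotient.exact (Quotient.out_eq (Quotient.mk (MulAction.orbitRel Γ (Orb B X)) y)))
    exact ⟨v⁻¹, by rw [← show v • y = base y from hv, inv_smul_smul]⟩
  have hbase' : ∀ (u : Γ) y, base (u • y) = base y := fun u y =>
    congrArg Quotient.out
      (Quotient.sound (MulAction.orbitRel_apply.mpr (MulAction.mem_orbit y u)))
  choose v hv using hbase
  let ν : Orb B X → A := fun y =>
    if (∀ u : Γ, u • y = y) then Λ y else θ (coeff (π (v y)) (base y)) / θ' (v y)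
  refine ⟨ν, fun u y => ?_, fun y h => if_pos h⟩
  by_cases hy : ∀ w : Γ, w • y = y
  · rw [hstab u y (hy u), ← hsmul, hy u, div_self', mul_one]
  have hy' : ¬ ∀ w : Γ, w • (u • y) = u • y := fun h => hy fun w => by
    have := h (u * w * u⁻¹)
    rw [← mul_smul, inv_mul_cancel_right, mul_smul] at this
    exact MulAction.injective u this
  simp only [ν, ← hsmul, if_neg hy, if_neg hy', hbase']
  set y₀ := base y
  have e1 : v y • y₀ = y := hv y
  have e2 : v (u • y) • y₀ = u • y :=
    (congrArg (fun z => v (u • y) • z) (hbase' u y).symm).trans (hv (u • y))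
  set a := u * v y with ha
  set r := a⁻¹ * v (u • y) with hr
  have hry : r • y₀ = y₀ := by
    rw [hr, ha, mul_smul, e2, mul_inv_rev, mul_smul, inv_smul_smul, inv_smul_eq_iff, e1]
  have h1 : θ (coeff (π (v (u • y))) y₀) = θ' r * θ (coeff (π a) y₀) := by
    rw [show v (u • y) = a * r by rw [hr, mul_inv_cancel_left], map_mul π,
      (move_mul hfree _ _ _).2, map_mul, hstab r y₀ hry, ← hsmul, hry]
  have h2 : θ (coeff (π a) y₀) = θ (coeff (π (v y)) y₀) * θ (coeff (π u) y) := by
    rw [ha, map_mul π, (move_mul hfree _ _ _).2, map_mul, ← hsmul, e1]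
  have h3 : θ' (v (u • y)) = θ' u * θ' (v y) * θ' r := by
    rw [← map_mul, ← map_mul, ← ha, hr, mul_inv_cancel_left]
  rw [h1, h2, h3]
  generalize θ' r = a₁
  generalize θ' u = a₂
  generalize θ' (v y) = a₃
  generalize θ (coeff (π (v y)) y₀) = a₄
  generalize θ (coeff (π u) y) = a₅
  apply Additive.ofMul.injective
  simp only [ofMul_mul, ofMul_div]
  abel

/-- The value of the transfer on a group with prescribed values at stabilizers. -/
theorem transfer_of_stab {Γ : Type*} [Group Γ] (π : Γ →* ↥(commPerm B X)) (θ' : Γ →* A)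
    (hstab : ∀ u y, orbMove (π u) y = y → θ (coeff (π u) y) = θ' u) (u : Γ) :
    transfer hfree θ (π u) = θ' u ^ Nat.card (Orb B X) := by
  obtain ⟨ν, hν, -⟩ := exists_norm hfree θ π θ' hstab fun _ => 1
  show ∏ y, θ (coeff (π u) y) = _
  rw [Finset.prod_congr rfl fun y _ => hν u y, Finset.prod_mul_distrib, Finset.prod_const,
    Finset.card_univ, Finset.prod_div_distrib,
    Fintype.prod_bijective _ (orbMove_bijective hfree (π u)) (fun y => ν (orbMove (π u) y)) ν
      fun _ => rfl, div_self', mul_one, Nat.card_eq_fintype_card]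

/-- The transfer is trivial on a permutation commuting with a `p`-group, if its coefficients at
the fixed orbits form a coboundary and the target has exponent `p`. -/
theorem transfer_eq_one {p : ℕ} [Fact p.Prime] (hA : ∀ a : A, a ^ p = 1) {Γ : Type*} [Group Γ]
    (hΓ : IsPGroup p Γ) (π : Γ →* ↥(commPerm B X)) (θ' : Γ →* A)
    (hstab : ∀ u y, orbMove (π u) y = y → θ (coeff (π u) y) = θ' u)
    {c : ↥(commPerm B X)} (hc : ∀ u, c * π u = π u * c) (Λ : Orb B X → A)
    (hfix : ∀ y, (∀ u, orbMove (π u) y = y) → θ (coeff c y) = Λ (orbMove c y) / Λ y) :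
    transfer hfree θ c = 1 := by
  classical
  obtain ⟨ν, hν, hνfix⟩ := exists_norm hfree θ π θ' hstab Λ
  letI := orbAction hfree
  letI actΓ : MulAction Γ (Orb B X) := MulAction.compHom _ π
  have hsmul : ∀ (u : Γ) (y : Orb B X), u • y = orbMove (π u) y := fun _ _ => rfl
  have hcomm : ∀ u y, orbMove c (u • y) = u • orbMove c y := fun u y => by
    rw [hsmul, hsmul, ← (move_mul hfree _ _ _).1, hc, (move_mul hfree _ _ _).1]
  let g : Orb B X → A := fun y => θ (coeff c y) / (ν (orbMove c y) / ν y)
  have hginv : ∀ (u : Γ) y, g (u • y) = g y := by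
    intro u y
    have h1 : θ (coeff c y) * θ (coeff (π u) (orbMove c y)) =
        θ (coeff (π u) y) * θ (coeff c (u • y)) := by
      rw [← map_mul, ← map_mul, hsmul, ← (move_mul hfree _ _ _).2, ← (move_mul hfree _ _ _).2, hc]
    have h2 : θ (coeff c (u • y)) =
        θ (coeff c y) * θ (coeff (π u) (orbMove c y)) / θ (coeff (π u) y) := by
      rw [h1, mul_div_cancel_left]
    simp only [g, h2, hν, hcomm]
    simp only [← hsmul]
    generalize θ (coeff c y) = a₁
    generalize θ' u = a₂
    generalize ν (u • orbMove c y) = a₃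
    generalize ν (orbMove c y) = a₄
    generalize ν (u • y) = a₅
    generalize ν y = a₆
    apply Additive.ofMul.injective
    simp only [ofMul_mul, ofMul_div]
    abel
  have hgfix : ∀ y, (∀ u : Γ, u • y = y) → g y = 1 := by
    intro y hy
    have hy' : ∀ u : Γ, u • orbMove c y = orbMove c y := fun u => by rw [← hcomm, hy]
    simp only [g, hνfix y hy, hνfix _ hy', hfix y hy, div_self']
  have hsum : ∏ y, g y = 1 := by
    letI := Fintype.ofFinite (Quotient (MulAction.orbitRel Γ (Orb B X)))
    rw [← Finset.prod_fiberwise Finset.univ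
      (fun y => (Quotient.mk (MulAction.orbitRel Γ (Orb B X)) y)) g]
    refine Finset.prod_eq_one fun q _ => ?_
    obtain ⟨y₀, rfl⟩ := q.exists_rep
    set O := Finset.univ.filter fun y =>
      (Quotient.mk (MulAction.orbitRel Γ (Orb B X)) y) = Quotient.mk _ y₀ with hO
    have hmem : ∀ y, y ∈ O ↔ y ∈ MulAction.orbit Γ y₀ := fun y => by
      rw [hO, Finset.mem_filter]
      exact ⟨fun h => MulAction.orbitRel_apply.mp (Quotient.exact h.2),
        fun h => ⟨Finset.mem_univ _, Quotient.sound (MulAction.orbitRel_apply.mpr h)⟩⟩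
    have hconst : ∀ y ∈ O, g y = g y₀ := by
      intro y hy
      obtain ⟨u, rfl⟩ := (hmem y).mp hy
      exact hginv u y₀
    rw [Finset.prod_congr rfl hconst, Finset.prod_const]
    have hcard : O.card = Nat.card (MulAction.orbit Γ y₀) := by
      rw [← Nat.card_eq_finsetCard]
      exact Nat.card_congr (Equiv.subtypeEquivRight hmem)
    haveI : Finite (MulAction.orbit Γ y₀) := inferInstance
    obtain ⟨k, hk⟩ := hΓ.card_orbit y₀
    rcases k with _ | k
    · rw [hgfix y₀ fun u => ?_, one_pow]
      rw [pow_zero, Nat.card_eq_one_iff_unique] at hk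
      exact congrArg Subtype.val (hk.1.elim ⟨u • y₀, MulAction.mem_orbit y₀ u⟩
        ⟨y₀, MulAction.mem_orbit_self y₀⟩)
    · rw [hcard, hk, pow_succ, pow_mul, hA]
  show ∏ y, θ (coeff c y) = 1
  have h := hsum
  simp only [g, Finset.prod_div_distrib] at h
  rw [Fintype.prod_bijective _ (orbMove_bijective hfree c) (fun y => ν (orbMove c y)) ν
    fun _ => rfl, div_self', div_one] at h
  exact h

end CfsgLib.FusionBasics.PPower
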